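import Groth.Agent.Desc.K99.PolInv
import Groth.Agent.S9866
import Groth.Agent.S1134

/-!
# Polarized descent along a flat surjective morphism of affine schemes

`effective_of_ample`: a descent datum on `X` over the affine scheme `S'` relative to a flat surjective morphism
`S' ⟶ S` of affine schemes is effective if `X` has an ample invertible module with a compatible descent datum.
-/

set_option autoImplicit false
set_option backward.isDefEq.respectTransparency false
set_option backward.isDefEq.respectTransparency.types false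
open CategoryTheory CategoryTheory.Limits AlgebraicGeometry Opposite TopologicalSpace TensorProduct
universe u

namespace K99.PolEff

open Groth.Agent Groth.Agent.Fdesc.LocGen Groth.Agent.Flat2H.FamExt K99.Av K388.DDGrpd _root_.Desc
  K99.PolCore K99.PolInv Groth.Agent.Desc.SecD Groth.Agent.Flat2H.FamDict Groth.Agent.Desc.AmpleDesc
  Groth.Agent.Desc.StableDD

variable {S' S : Scheme.{u}} {p : S' ⟶ S} {D : SchDD p} {ι : Type*}
  {W : ι → D.obj.left.Opens} {g : ∀ i j, Γ(D.obj.left, W i ⊓ W j)}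
  {δ : ∀ i j, Γ(R D, src D ⁻¹ᵁ W i ⊓ tgt D ⁻¹ᵁ W j)}

/-- If a section does not vanish at `x`, then some invariant section does not vanish at `x`. -/
theorem exists_inv [IsAffine S] [IsAffine S'] [Flat p] [Finite ι] (h : Frames D W g δ)
    (hW : ∀ j, IsCompact (W j : Set D.obj.left)) (hW' : ∀ j, IsQuasiSeparated (W j : Set D.obj.left))
    (hcc : ∀ i j, IsCompact ((W i ⊓ W j : D.obj.left.Opens) : Set D.obj.left))
    (m : Fam W g) (j : ι) (x : D.obj.left) (hx : x ∈ D.obj.left.basicOpen (m.1 j)) :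
    ∃ n : Fam W g, du h n = pbM (tgt D) n ∧ x ∈ D.obj.left.basicOpen (n.1 j) := by
  obtain ⟨N, iN, hN, hs, hb⟩ := exists_sub h hW hW' hcc
  let _ : Algebra Γ(S, ⊤) Γ(S', ⊤) := p.appTop.hom.toAlgebra
  let iM : Module Γ(S', ⊤) (Fam W g) := Module.compHom _ D.obj.hom.appTop.hom
  obtain ⟨y, hy⟩ := hb.2 m
  have hxW : x ∈ W j := D.obj.left.basicOpen_le _ hx
  have key : ∀ y : Γ(S', ⊤) ⊗[Γ(S, ⊤)] N, x ∈ D.obj.left.basicOpen ((VarietyB.BCAlg.bc
      (⟨⟨N.subtype, map_add N.subtype⟩, hs⟩ : N →ₛₗ[algebraMap Γ(S, ⊤) Γ(S', ⊤)] Fam W g) y).1 j) →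
      ∃ n : Fam W g, du h n = pbM (tgt D) n ∧ x ∈ D.obj.left.basicOpen (n.1 j) := by
    intro y
    induction y with
    | zero =>
      intro h0
      rw [map_zero] at h0
      change x ∈ D.obj.left.basicOpen (0 : Γ(D.obj.left, W j)) at h0
      simp at h0
    | add y z hy hz =>
      intro h0
      rw [map_add, add_val, Scheme.mem_basicOpen _ _ _ hxW, map_add] at h0
      rcases IsLocalRing.isUnit_or_isUnit_of_isUnit_add h0 with h1 | h1
      · exact hy ((Scheme.mem_basicOpen _ _ _ hxW).2 h1)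
      · exact hz ((Scheme.mem_basicOpen _ _ _ hxW).2 h1)
    | tmul a n =>
      intro h0
      rw [VarietyB.BCAlg.bc_tmul] at h0
      change x ∈ D.obj.left.basicOpen (ores le_top (D.obj.hom.appTop a) * n.1.1 j) at h0
      rw [Scheme.basicOpen_mul] at h0
      exact ⟨n.1, (hN n.1).1 n.2, h0.2⟩
  exact key y (by rw [hy]; exact hx)

/-- The non-vanishing locus of an invariant section is stable. -/
theorem isStable (h : Frames D W g δ) (n : Fam W g) (hn : du h n = pbM (tgt D) n) :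
    IsStable D (⨆ j, D.obj.left.basicOpen (n.1 j)) := by
  rw [isStable_iff]
  have hi : ∀ (r : R D) (i j : ι) (hi : r ∈ src D ⁻¹ᵁ W i) (hj : r ∈ tgt D ⁻¹ᵁ W j),
      (r ∈ src D ⁻¹ᵁ D.obj.left.basicOpen (n.1 i) ↔ r ∈ tgt D ⁻¹ᵁ D.obj.left.basicOpen (n.1 j)) := by
    intro r i j hi hj
    let V : (R D).Opens := src D ⁻¹ᵁ W i ⊓ tgt D ⁻¹ᵁ W j
    have hrV : r ∈ V := ⟨hi, hj⟩
    have h1 := du_val h n i j V inf_le_left inf_le_right
    rw [hn, pbM_val, ores_av] at h1
    have e1 : V ⊓ src D ⁻¹ᵁ D.obj.left.basicOpen (n.1 i) =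
        (R D).basicOpen (av (src D) (inf_le_left : V ≤ _) (n.1 i)) := by
      rw [Scheme.preimage_basicOpen, app_eq_av, ← ores_av (src D) le_rfl (inf_le_left : V ≤ _),
        basicOpen_res]
    have e2 : V ⊓ tgt D ⁻¹ᵁ D.obj.left.basicOpen (n.1 j) =
        (R D).basicOpen (av (tgt D) (inf_le_right : V ≤ _) (n.1 j)) := by
      rw [Scheme.preimage_basicOpen, app_eq_av, ← ores_av (tgt D) le_rfl (inf_le_right : V ≤ _),
        basicOpen_res]
    have e3 : (R D).basicOpen (ores (le_inf inf_le_left inf_le_right : V ≤ V) (δ i j)) = V :=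
      (R D).basicOpen_of_isUnit ((h.unit i j).map _)
    have e4 : V ⊓ src D ⁻¹ᵁ D.obj.left.basicOpen (n.1 i) =
        V ⊓ tgt D ⁻¹ᵁ D.obj.left.basicOpen (n.1 j) := by
      have e5 : V ⊓ (V ⊓ src D ⁻¹ᵁ D.obj.left.basicOpen (n.1 i)) = V ⊓ src D ⁻¹ᵁ D.obj.left.basicOpen (n.1 i) := by
        rw [← inf_assoc, inf_idem]
      rw [e2, h1, Scheme.basicOpen_mul, e3, ← e1]
      exact e5.symm.trans (inf_comm _ _)
    constructor
    · intro h2
      have h3 : r ∈ V ⊓ src D ⁻¹ᵁ D.obj.left.basicOpen (n.1 i) := ⟨hrV, h2⟩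
      rw [e4] at h3
      exact h3.2
    · intro h2
      have h3 : r ∈ V ⊓ tgt D ⁻¹ᵁ D.obj.left.basicOpen (n.1 j) := ⟨hrV, h2⟩
      rw [← e4] at h3
      exact h3.2
  ext r
  constructor
  · intro hr
    obtain ⟨i, hri⟩ := Opens.mem_iSup.1 (show src D r ∈ ⨆ j, D.obj.left.basicOpen (n.1 j) from hr)
    obtain ⟨j, hj⟩ := h.cover (tgt D r)
    exact Opens.mem_iSup.2 ⟨j, (hi r i j (D.obj.left.basicOpen_le _ hri) hj).1 hri⟩
  · intro hr
    obtain ⟨j, hrj⟩ := Opens.mem_iSup.1 (show tgt D r ∈ ⨆ j, D.obj.left.basicOpen (n.1 j) from hr)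
    obtain ⟨i, hi'⟩ := h.cover (src D r)
    exact Opens.mem_iSup.2 ⟨i, (hi r i j hi' (D.obj.left.basicOpen_le _ hrj)).2 hrj⟩

theorem isQuasiAffine_of_scheme {X Y : Scheme.{u}} [IsAffine Y] (f : X ⟶ Y) [X.IsQuasiAffine] :
    Mor2.IsQuasiAffine f := by
  refine ⟨quasiCompact_of_compactSpace f, fun V hV => ?_⟩
  have h1 : IsAffine V := hV
  have h2 : IsAffineHom V.ι := inferInstance
  have h3 : IsAffineHom (f ⁻¹ᵁ V).ι :=
    MorphismProperty.of_isPullback (isPullback_morphismRestrict f V) h2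
  exact Scheme.IsQuasiAffine.of_isAffineHom (f ⁻¹ᵁ V).ι

/-- **Polarized descent** along a flat surjective morphism of affine schemes. -/
theorem effective_of_ample [IsAffine S] [IsAffine S'] [Flat p] [Surjective p] [Finite ι]
    {L : D.obj.left.Modules} (hA : CohB1.IsAmple L) (hT : Trivs L W g) (hW : ∀ j, IsAffineOpen (W j))
    [QuasiSeparatedSpace D.obj.left] (h : Frames D W g δ) :
    ∃ U : Over S, Nonempty ((toDD p).obj U ≅ D) := by
  refine Groth.Agent.S9866.result p D fun v => ?_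
  obtain ⟨n, c, hc, hvc, -⟩ := (hT.isAmple_iff.1 hA).2 v
  obtain ⟨j, hj⟩ := Opens.mem_iSup.mp hvc
  have hcc : ∀ i j, IsCompact ((W i ⊓ W j : D.obj.left.Opens) : Set D.obj.left) := fun i j =>
    QuasiSeparatedSpace.inter_isCompact _ _ (W i).isOpen (hW i).isCompact
      (W j).isOpen (hW j).isCompact
  obtain ⟨m, hm, hvm⟩ := exists_inv (h.pow (n + 1)) (fun j => (hW j).isCompact)
    (fun j => (hW j).isQuasiSeparated) hcc ⟨c, hc⟩ j v hj
  let O : D.obj.left.Opens := ⨆ j, D.obj.left.basicOpen (m.1 j)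
  have hO : IsStable D O := isStable (h.pow (n + 1)) m hm
  have hqa : (O : Scheme.{u}).IsQuasiAffine := isQuasiAffine_of_isFam hT hA n m.1 m.2
  refine ⟨restrict D O hO, restrictHom D O hO, inferInstanceAs (IsOpenImmersion O.ι), ?_, ?_⟩
  · change v ∈ Set.range O.ι
    rw [Scheme.Opens.range_ι]
    exact Opens.mem_iSup.2 ⟨j, hvm⟩
  · exact Groth.Agent.S1134.result p _ (isQuasiAffine_of_scheme (O.ι ≫ D.obj.hom))

end K99.PolEff
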