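import Groth.Agent.Desc.K99.PolMaps
import Groth.Agent.S9370
import Groth.Agent.S9386
import Groth.Agent.S5005

/-!
# The descent datum on the sheaf of differentials of a descent datum

For a descent datum `D` on `X ⟶ S'` the sheaf `Ω_{X/S'}` carries a canonical descent datum; in terms of
frames: `exists_frames_omega`.
-/

set_option autoImplicit false
set_option backward.isDefEq.respectTransparency false
set_option backward.isDefEq.respectTransparency.types false
open CategoryTheory CategoryTheory.Limits AlgebraicGeometry Opposite TopologicalSpace TensorProduct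
universe u

namespace K99.PolOmega

open Groth.Agent Groth.Agent.Fdesc.LocGen Groth.Agent.Flat2H.FamExt K99.Av K388.DDGrpd _root_.Desc
  K99.PolCore K99.PolMaps OmegaSh

section Compat

variable {X₀ X₁ X₂ S₀ S₁ S₂ : Scheme.{u}} {f₀ : X₀ ⟶ S₀} {f₁ : X₁ ⟶ S₁} {f₂ : X₂ ⟶ S₂}
  {Ω₀ : X₀.Modules} {Ω₁ : X₁.Modules} {Ω₂ : X₂.Modules} {d₀ : Der f₀ Ω₀} {d₁ : Der f₁ Ω₁} {d₂ : Der f₂ Ω₂}

theorem compat_comp {h : X₂ ⟶ X₁} {k : X₁ ⟶ X₀} {θ : (Scheme.Modules.pullback h).obj Ω₁ ⟶ Ω₂}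
    {η : (Scheme.Modules.pullback k).obj Ω₀ ⟶ Ω₁} (hθ : IsDiffCompat h d₁ d₂ θ)
    (hη : IsDiffCompat k d₀ d₁ η) :
    IsDiffCompat (h ≫ k) d₀ d₂
      ((Scheme.Modules.pullbackComp h k).inv.app Ω₀ ≫ (Scheme.Modules.pullback h).map η ≫ θ) := by
  intro U s
  have h1 := ps_ps (f := h) θ (g := k) η (U := U) (V := k ⁻¹ᵁ U) le_rfl (h ⁻¹ᵁ k ⁻¹ᵁ U) le_rfl (d₀.app U s)
  unfold ps at h1
  rw [Groth.Agent.Fdesc.LocGen.res_refl, Groth.Agent.Fdesc.LocGen.res_refl] at h1
  refine ((Groth.Agent.Fdesc.LocGen.res_refl Ω₂ _).symm.trans h1.symm).trans ?_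
  have h2 : η.app (k ⁻¹ᵁ U) (pullSec k (d₀.app U s)) = d₁.app (k ⁻¹ᵁ U) (k.app U s) := hη U s
  rw [h2]
  exact hθ (k ⁻¹ᵁ U) (k.app U s)

theorem ps_unique {h k : X₁ ⟶ X₀} (e : h = k) {b : S₁ ⟶ S₀} (hsq : f₁ ≫ b = h ≫ f₀)
    (hd₀ : IsUniversal d₀) (hd₁ : IsUniversal d₁)
    {θ : (Scheme.Modules.pullback h).obj Ω₀ ⟶ Ω₁} {η : (Scheme.Modules.pullback k).obj Ω₀ ⟶ Ω₁}
    (hθ : IsDiffCompat h d₀ d₁ θ) (hη : IsDiffCompat k d₀ d₁ η) {U : X₀.Opens} (m : Γ(Ω₀, U))
    (V : X₁.Opens) (hV : V ≤ h ⁻¹ᵁ U) (hV' : V ≤ k ⁻¹ᵁ U) : ps θ V hV m = ps η V hV' m := by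
  subst e
  rw [(Groth.Agent.S9370.result f₀ f₁ h b hsq Ω₀ d₀ hd₀ Ω₁ d₁ hd₁).unique hθ hη]

end Compat

variable {S' S : Scheme.{u}} {p : S' ⟶ S} (D : SchDD p)

/-- the pair of points of the base of an arrow -/
noncomputable def r₁ : R D ⟶ pullback p p := pullback.lift (src D ≫ D.obj.hom) (pt D) (src_pt D)

theorem r₁_fst : r₁ D ≫ pullback.fst p p = src D ≫ D.obj.hom := pullback.lift_fst _ _ _

theorem r₁_snd : r₁ D ≫ pullback.snd p p = tgt D ≫ D.obj.hom := by
  rw [tgt_hom]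
  exact pullback.lift_snd _ _ _

theorem isPullback_src₁ : IsPullback (src D) (r₁ D) D.obj.hom (pullback.fst p p) := by
  have h1 : IsPullback (r₁ D ≫ pullback.snd p p) (src D) p (D.obj.hom ≫ p) := by
    rw [r₁_snd, tgt_hom]
    exact isPullback_src D
  exact (IsPullback.of_right h1 (r₁_fst D) (IsPullback.of_hasPullback p p).flip).flip

theorem isPullback_tgt' : IsPullback (tgt D) (src D ≫ D.obj.hom) (D.obj.hom ≫ p) p := by
  have := isIso_inve D
  refine IsPullback.of_iso (isPullback_src D).flip (asIso (inve D)).symm (Iso.refl _) (Iso.refl _)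
    (Iso.refl _) ?_ ?_ ?_ ?_
  · rw [Iso.refl_hom, Category.comp_id, Iso.symm_hom, asIso_inv, IsIso.eq_inv_comp, inve_src]
  · rw [Iso.refl_hom, Category.comp_id, Iso.symm_hom, asIso_inv, IsIso.eq_inv_comp, inve_pt]
  · simp
  · simp

theorem isPullback_tgt₁ : IsPullback (tgt D) (r₁ D) D.obj.hom (pullback.snd p p) := by
  have h1 : IsPullback (r₁ D ≫ pullback.fst p p) (tgt D) p (D.obj.hom ≫ p) := by
    rw [r₁_fst]
    exact (isPullback_tgt' D).flip
  exact (IsPullback.of_right h1 (r₁_snd D) (IsPullback.of_hasPullback p p)).flip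

/-- the triple of points of the base of a composable pair -/
noncomputable def r₂ : pullback (src D) (tgt D) ⟶ pullback (pullback.fst p p) (pullback.snd p p) :=
  pullback.map _ _ _ _ (r₁ D) (r₁ D) D.obj.hom (r₁_fst D).symm (r₁_snd D).symm

theorem r₂_fst : r₂ D ≫ pullback.fst _ _ = pullback.fst (src D) (tgt D) ≫ r₁ D := pullback.lift_fst _ _ _

theorem r₂_snd : r₂ D ≫ pullback.snd _ _ = pullback.snd (src D) (tgt D) ≫ r₁ D := pullback.lift_snd _ _ _

theorem isPullback_fst₂ : IsPullback (pullback.fst (src D) (tgt D)) (r₂ D) (r₁ D)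
    (pullback.fst (pullback.fst p p) (pullback.snd p p)) := by
  have h0 : IsPullback (pullback.snd (src D) (tgt D) ≫ r₁ D) (pullback.fst (src D) (tgt D))
      (pullback.snd p p) (src D ≫ D.obj.hom) :=
    ((IsPullback.of_hasPullback (src D) (tgt D)).paste_vert (isPullback_tgt₁ D).flip.flip).flip
  have h1 : IsPullback (r₂ D ≫ pullback.snd _ _) (pullback.fst (src D) (tgt D))
      (pullback.snd p p) (r₁ D ≫ pullback.fst p p) := by
    rw [r₂_snd, r₁_fst]
    exact h0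
  exact (IsPullback.of_right h1 (r₂_fst D)
    (IsPullback.of_hasPullback (pullback.fst p p) (pullback.snd p p)).flip).flip

/-- `(x₁, x₂, x₃) ↦ (x₁, x₃)` -/
noncomputable def cmpB (p : S' ⟶ S) : pullback (pullback.fst p p) (pullback.snd p p) ⟶ pullback p p :=
  pullback.lift (pullback.snd _ _ ≫ pullback.fst p p) (pullback.fst _ _ ≫ pullback.snd p p) (by
    rw [Category.assoc, Category.assoc, pullback.condition, ← Category.assoc, ← pullback.condition,
      Category.assoc, pullback.condition])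

theorem r₂_cmpB : r₂ D ≫ cmpB p = cmp D ≫ r₁ D := by
  apply pullback.hom_ext
  · rw [Category.assoc, Category.assoc, cmpB, pullback.lift_fst, r₁_fst, ← Category.assoc, r₂_snd,
      Category.assoc, r₁_fst, ← Category.assoc, ← Category.assoc, cmp_src]
  · rw [Category.assoc, Category.assoc, cmpB, pullback.lift_snd, r₁_snd, ← Category.assoc, r₂_fst,
      Category.assoc, r₁_snd, ← Category.assoc, ← Category.assoc, cmp_tgt]

/-- The canonical descent datum on `Ω`. -/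
theorem exists_frames_omega [QuasiSeparated D.obj.hom] {ι : Type*} (W : ι → D.obj.left.Opens)
    (g : ∀ i j, Γ(D.obj.left, W i ⊓ W j))
    (hg : Groth.Agent.Flat2H.FamDict.Trivs (Omega.sheaf D.obj.hom) W g) :
    ∃ δ : ∀ i j, Γ(R D, src D ⁻¹ᵁ W i ⊓ tgt D ⁻¹ᵁ W j), Frames D W g δ := by
  have q1 : QuasiSeparated (r₁ D) := MorphismProperty.of_isPullback (isPullback_src₁ D) inferInstance
  have q2 : QuasiSeparated (r₂ D) := MorphismProperty.of_isPullback (isPullback_fst₂ D) q1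
  have u0 := Groth.Agent.S5005.result D.obj.hom
  have u1 := Groth.Agent.S5005.result (r₁ D)
  have u2 := Groth.Agent.S5005.result (r₂ D)
  have ws : r₁ D ≫ pullback.fst p p = src D ≫ D.obj.hom := r₁_fst D
  have wt : r₁ D ≫ pullback.snd p p = tgt D ≫ D.obj.hom := r₁_snd D
  obtain ⟨s, hs, -⟩ := Groth.Agent.S9370.result D.obj.hom (r₁ D) (src D) (pullback.fst p p) ws _ _ u0 _ _ u1
  obtain ⟨t, ht, -⟩ := Groth.Agent.S9370.result D.obj.hom (r₁ D) (tgt D) (pullback.snd p p) wt _ _ u0 _ _ u1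
  obtain ⟨a, ha, -⟩ := Groth.Agent.S9370.result (r₁ D) (r₂ D) (pullback.fst (src D) (tgt D))
    (pullback.fst _ _) (r₂_fst D) _ _ u1 _ _ u2
  obtain ⟨b, hb, -⟩ := Groth.Agent.S9370.result (r₁ D) (r₂ D) (pullback.snd (src D) (tgt D))
    (pullback.snd _ _) (r₂_snd D) _ _ u1 _ _ u2
  obtain ⟨c, hc, -⟩ := Groth.Agent.S9370.result (r₁ D) (r₂ D) (cmp D) (cmpB p) (r₂_cmpB D) _ _ u1 _ _ u2
  have is : IsIso s := Groth.Agent.S9386.result D.obj.hom (pullback.fst p p) (src D) (r₁ D)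
    (isPullback_src₁ D) _ _ u0 _ _ u1 s hs
  have it : IsIso t := Groth.Agent.S9386.result D.obj.hom (pullback.snd p p) (tgt D) (r₁ D)
    (isPullback_tgt₁ D) _ _ u0 _ _ u1 t ht
  have ia : IsIso a := Groth.Agent.S9386.result (r₁ D) (pullback.fst _ _)
    (pullback.fst (src D) (tgt D)) (r₂ D) (isPullback_fst₂ D) _ _ u1 _ _ u2 a ha
  have w1 : r₂ D ≫ pullback.fst _ _ ≫ pullback.fst p p =
      (pullback.fst (src D) (tgt D) ≫ src D) ≫ D.obj.hom := by
    rw [← Category.assoc, r₂_fst, Category.assoc, r₁_fst, Category.assoc]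
  have w2 : r₂ D ≫ pullback.snd _ _ ≫ pullback.fst p p =
      (pullback.snd (src D) (tgt D) ≫ src D) ≫ D.obj.hom := by
    rw [← Category.assoc, r₂_snd, Category.assoc, r₁_fst, Category.assoc]
  have w3 : r₂ D ≫ pullback.fst _ _ ≫ pullback.snd p p =
      (pullback.fst (src D) (tgt D) ≫ tgt D) ≫ D.obj.hom := by
    rw [← Category.assoc, r₂_fst, Category.assoc, r₁_snd, Category.assoc]
  refine exists_frames s t a b c ?_ ?_ ?_ W g hg
  · intro U m V h h'
    rw [ps_ps, ps_ps]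
    exact ps_unique (fst_src D) w1 u0 u2 (compat_comp ha hs) (compat_comp hb ht) m V h h'
  · intro U m V h h'
    rw [ps_ps, ps_ps]
    exact ps_unique (cmp_src D).symm w2 u0 u2 (compat_comp hb hs) (compat_comp hc hs) m V h h'
  · intro U m V h h'
    rw [ps_ps, ps_ps]
    exact ps_unique (cmp_tgt D).symm w3 u0 u2 (compat_comp ha ht) (compat_comp hc ht) m V h h'

end K99.PolOmega
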