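import Groth.Agent.Desc.AmpleDesc
import Groth.Agent.Desc.SecData2

/-!
# Pulling back functions, and the module of compatible families

`av f h`: pull back a function along `f` and restrict it.
`Fam W g`: the families `b_j ∈ Γ(X, W j)` with `b_i g_ij = b_j` (sections of a line bundle with transition
functions `g`), a `Γ(X, ⊤)`-module.  `isBC`: it commutes with flat base change.
-/

set_option autoImplicit false
open CategoryTheory CategoryTheory.Limits AlgebraicGeometry Opposite TopologicalSpace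
universe u

namespace K99.Av

open Groth.Agent Groth.Agent.Fdesc.LocGen Groth.Agent.Flat2H.FamExt Groth.Agent.Desc.AmpleDesc
  Groth.Agent.Desc.SecD

section Av

variable {X Y Z : Scheme.{u}}

/-- pull back a function and restrict it -/
noncomputable def av (f : X ⟶ Y) {U : Y.Opens} {V : X.Opens} (h : V ≤ f ⁻¹ᵁ U) : Γ(Y, U) →+* Γ(X, V) :=
  (f.appLE U V h).hom

theorem ores_av (f : X ⟶ Y) {U : Y.Opens} {V V' : X.Opens} (h : V ≤ f ⁻¹ᵁ U) (h' : V' ≤ V) (a : Γ(Y, U)) :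
    ores h' (av f h a) = av f (h'.trans h) a :=
  congr($(Scheme.Hom.appLE_map f h (homOfLE h').op) a)

theorem av_ores (f : X ⟶ Y) {U U' : Y.Opens} {V : X.Opens} (h : V ≤ f ⁻¹ᵁ U) (h' : U ≤ U') (a : Γ(Y, U')) :
    av f h (ores h' a) = av f (h.trans (Scheme.Hom.preimage_mono f h')) a :=
  congr($(Scheme.Hom.map_appLE f h (homOfLE h').op) a)

theorem av_av (f : X ⟶ Y) (g : Y ⟶ Z) {W : Z.Opens} {U : Y.Opens} {V : X.Opens} (h : V ≤ f ⁻¹ᵁ U)
    (h' : U ≤ g ⁻¹ᵁ W) (a : Γ(Z, W)) :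
    av f h (av g h' a) = av (f ≫ g) (h.trans (Scheme.Hom.preimage_mono f h')) a :=
  congr($(Scheme.Hom.appLE_comp_appLE f g W U V h' h) a)

theorem av_congr {f f' : X ⟶ Y} (e : f = f') {U : Y.Opens} {V : X.Opens} (h : V ≤ f ⁻¹ᵁ U)
    (h' : V ≤ f' ⁻¹ᵁ U) (a : Γ(Y, U)) : av f h a = av f' h' a := by
  subst e; rfl

theorem av_id {U V : X.Opens} (h : V ≤ (𝟙 X) ⁻¹ᵁ U) (a : Γ(X, U)) : av (𝟙 X) h a = ores h a := by
  have h1 : (𝟙 X : X ⟶ X).appLE U V h = X.presheaf.map (homOfLE (h : V ≤ U)).op := by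
    simp only [Scheme.Hom.appLE, Scheme.Hom.id_app]
    exact Category.id_comp _
  exact congr($h1 a)

theorem app_eq_av (f : X ⟶ Y) (U : Y.Opens) (a : Γ(Y, U)) : f.app U a = av f le_rfl a :=
  congr($(Scheme.Hom.app_eq_appLE f (U := U)) a)

end Av

variable {X : Scheme.{u}} {ι : Type*}

/-- The group of compatible families. -/
def Fam (W : ι → X.Opens) (g : ∀ i j, Γ(X, W i ⊓ W j)) : AddSubgroup (∀ j, Γ(X, W j)) where
  carrier := {m | IsFam W g m}
  add_mem' {a b} ha hb i j := by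
    rw [Pi.add_apply, Pi.add_apply, map_add, map_add, add_mul, ha i j, hb i j]
  zero_mem' i j := by
    rw [Pi.zero_apply, Pi.zero_apply, map_zero, map_zero, zero_mul]
  neg_mem' {a} ha i j := by
    rw [Pi.neg_apply, Pi.neg_apply, map_neg, map_neg, neg_mul, ha i j]

variable {W : ι → X.Opens} {g : ∀ i j, Γ(X, W i ⊓ W j)}

theorem Fam.ext' {a b : Fam W g} (h : ∀ j, a.1 j = b.1 j) : a = b := Subtype.ext (funext h)

noncomputable instance : Module Γ(X, ⊤) (Fam W g) where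
  smul r m := ⟨fun j => ores le_top r * m.1 j, fun i j => by
    rw [map_mul, map_mul, mul_assoc, m.2 i j, ores_ores, ores_ores]⟩
  one_smul m := Fam.ext' fun j => by
    change ores le_top 1 * m.1 j = m.1 j
    rw [map_one, one_mul]
  mul_smul r s m := Fam.ext' fun j => by
    change ores le_top (r * s) * m.1 j = ores le_top r * (ores le_top s * m.1 j)
    rw [map_mul, mul_assoc]
  smul_zero r := Fam.ext' fun j => by
    change ores le_top r * 0 = 0
    rw [mul_zero]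
  smul_add r a b := Fam.ext' fun j => by
    change ores le_top r * (a.1 j + b.1 j) = ores le_top r * a.1 j + ores le_top r * b.1 j
    rw [mul_add]
  add_smul r s m := Fam.ext' fun j => by
    change ores le_top (r + s) * m.1 j = ores le_top r * m.1 j + ores le_top s * m.1 j
    rw [map_add, add_mul]
  zero_smul m := Fam.ext' fun j => by
    change ores le_top 0 * m.1 j = 0
    rw [map_zero, zero_mul]

theorem smul_val (r : Γ(X, ⊤)) (m : Fam W g) (j : ι) : (r • m).1 j = ores le_top r * m.1 j := rfl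

theorem add_val (a b : Fam W g) (j : ι) : (a + b).1 j = a.1 j + b.1 j := rfl

theorem fam_ores (m : Fam W g) (i j : ι) {V : X.Opens} (hi : V ≤ W i) (hj : V ≤ W j) :
    ores hi (m.1 i) * ores (le_inf hi hj) (g i j) = ores hj (m.1 j) := by
  have h := congrArg (ores (le_inf hi hj)) (m.2 i j)
  rw [map_mul, ores_ores, ores_ores] at h
  exact h

theorem fam_av {X' : Scheme.{u}} (f : X' ⟶ X) (m : Fam W g) (i j : ι) {V : X'.Opens}
    (hi : V ≤ f ⁻¹ᵁ W i) (hj : V ≤ f ⁻¹ᵁ W j) :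
    av f hi (m.1 i) * av f (U := W i ⊓ W j) (le_inf hi hj) (g i j) = av f hj (m.1 j) := by
  have h := congrArg (av f (U := W i ⊓ W j) (V := V) (le_inf hi hj)) (m.2 i j)
  rw [map_mul, av_ores, av_ores] at h
  exact h

/-- Pullback of compatible families. -/
noncomputable def pb {X' : Scheme.{u}} (f : X' ⟶ X) (W' : ι → X'.Opens) (hW' : ∀ j, W' j ≤ f ⁻¹ᵁ W j)
    (g' : ∀ i j, Γ(X', W' i ⊓ W' j))
    (hg' : ∀ i j, g' i j = av f (U := W i ⊓ W j) (inf_le_inf (hW' i) (hW' j)) (g i j)) :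
    Fam W g →+ Fam W' g' where
  toFun m := ⟨fun j => av f (hW' j) (m.1 j), fun i j => by
    rw [ores_av, ores_av, hg']
    exact fam_av f m i j _ _⟩
  map_zero' := Fam.ext' fun j => map_zero _
  map_add' a b := Fam.ext' fun j => map_add _ _ _

theorem pb_val {X' : Scheme.{u}} (f : X' ⟶ X) (W' : ι → X'.Opens) (hW' : ∀ j, W' j ≤ f ⁻¹ᵁ W j)
    (g' : ∀ i j, Γ(X', W' i ⊓ W' j))
    (hg' : ∀ i j, g' i j = av f (U := W i ⊓ W j) (inf_le_inf (hW' i) (hW' j)) (g i j)) (m : Fam W g) (j : ι) :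
    (pb f W' hW' g' hg' m).1 j = av f (hW' j) (m.1 j) := rfl

theorem bc_bijective_of_isPushout' {A B R R' : Type u} [CommRing A] [CommRing B] [CommRing R] [CommRing R']
    [Algebra A B] [Algebra A R] [Algebra B R'] (α : R →+* R')
    (h : IsPushout (CommRingCat.ofHom (algebraMap A R)) (CommRingCat.ofHom (algebraMap A B))
      (CommRingCat.ofHom α) (CommRingCat.ofHom (algebraMap B R')))
    (s : R →ₛₗ[algebraMap A B] R') (hs : ∀ r, s r = α r) :
    Function.Bijective (VarietyB.BCAlg.bc s) := by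
  let _ : Algebra R R' := α.toAlgebra
  let _ : Algebra A R' := (α.comp (algebraMap A R)).toAlgebra
  have t1 : IsScalarTower A B R' := IsScalarTower.of_algebraMap_eq' congr($(h.w).hom)
  have t2 : IsScalarTower A R R' := IsScalarTower.of_algebraMap_eq' rfl
  have h1 : Algebra.IsPushout A B R R' := CommRingCat.isPushout_iff_isPushout.mp h.flip
  exact (VarietyB.BCAlg.isBaseChange_iff (IsScalarTower.toAlgHom A R R').toLinearMap s
    (fun m => (hs m).symm)).1 h1.out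

/-- Flat base change for compatible families. -/
theorem isBC {Y X' V : Scheme.{u}} [IsAffine Y] [IsAffine V] {f : X ⟶ Y}
    {p : V ⟶ Y} {a : X' ⟶ X} {b : X' ⟶ V} (H : IsPullback a b f p) [Flat p]
    [Finite ι] (W : ι → X.Opens) (hW : ∀ j, IsCompact (W j : Set X))
    (hW' : ∀ j, IsQuasiSeparated (W j : Set X))
    (hcc : ∀ i j, IsCompact ((W i ⊓ W j : X.Opens) : Set X))
    (g : ∀ i j, Γ(X, W i ⊓ W j)) (g' : ∀ i j, Γ(X', a ⁻¹ᵁ W i ⊓ a ⁻¹ᵁ W j))
    (hg' : ∀ i j, g' i j = av a (U := W i ⊓ W j) le_rfl (g i j))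
    (iM : Module Γ(Y, ⊤) (Fam W g))
    (hM : ∀ r m, iM.smul r m = f.appTop r • m)
    (iP : Module Γ(V, ⊤) (Fam (fun j => a ⁻¹ᵁ W j) g'))
    (hP : ∀ r m, iP.smul r m = b.appTop r • m)
    (u : Fam W g →+ Fam (fun j => a ⁻¹ᵁ W j) g') (hu : ∀ m j, (u m).1 j = av a le_rfl (m.1 j)) :
    IsBC p.appTop.hom iM iP u := by
  let iA : Algebra Γ(Y, ⊤) Γ(V, ⊤) := p.appTop.hom.toAlgebra
  have hflat : Module.Flat Γ(Y, ⊤) Γ(V, ⊤) := p.flat_appTop
  have hM' : ∀ (r : Γ(Y, ⊤)) (m : Fam W g) (j : ι),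
      (iM.smul r m).1 j = av f (U := ⊤) le_top r * m.1 j := fun r m j => by
    rw [hM, smul_val]
    congr 1
  have hP' : ∀ (r : Γ(V, ⊤)) (m : Fam (fun j => a ⁻¹ᵁ W j) g') (j : ι),
      (iP.smul r m).1 j = av b (U := ⊤) le_top r * m.1 j := fun r m j => by
    rw [hP, smul_val]
    congr 1
  have hw : ∀ (U : X.Opens) (r : Γ(Y, ⊤)), av a (le_refl (a ⁻¹ᵁ U)) (av f (U := ⊤) le_top r) =
      av b (U := ⊤) le_top (p.appTop r) := fun U r => by
    have h1 : p.appTop r = av p (U := ⊤) (V := ⊤) le_rfl r := app_eq_av p ⊤ r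
    rw [h1]
    exact (av_av a f (le_refl (a ⁻¹ᵁ U)) _ r).trans ((av_congr H.w _ _ r).trans
      (av_av b p (U := ⊤) (V := a ⁻¹ᵁ U) le_top _ r).symm)
  have hsem : ∀ (r : Γ(Y, ⊤)) (m : Fam W g), u (iM.smul r m) = iP.smul (p.appTop.hom r) (u m) := by
    intro r m
    refine Fam.ext' fun j => ?_
    rw [hu, hM', hP', map_mul, hu]
    exact congrArg (· * _) (hw (W j) r)
  refine ⟨hsem, ?_⟩
  -- the products
  let mU : ∀ U : X.Opens, Module Γ(Y, ⊤) Γ(X, U) := fun U =>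
    (av f (U := ⊤) (V := U) le_top).toAlgebra.toModule
  let mU' : ∀ U : X'.Opens, Module Γ(V, ⊤) Γ(X', U) := fun U =>
    (av b (U := ⊤) (V := U) le_top).toAlgebra.toModule
  let s : ∀ U : X.Opens, Γ(X, U) →ₛₗ[algebraMap Γ(Y, ⊤) Γ(V, ⊤)] Γ(X', a ⁻¹ᵁ U) := fun U =>
    { toFun := av a le_rfl
      map_add' := map_add _
      map_smul' := fun r m => by
        change av a le_rfl (av f (U := ⊤) le_top r * m) = _
        rw [map_mul]
        exact congrArg (· * _) (hw U r) }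
  have hs : ∀ U : X.Opens, IsCompact (U : Set X) → IsQuasiSeparated (U : Set X) →
      Function.Bijective (VarietyB.BCAlg.bc (s U)) := fun U h1 h2 => by
    let _ : Algebra Γ(Y, ⊤) Γ(X, U) := (av f (U := ⊤) (V := U) le_top).toAlgebra
    let _ : Algebra Γ(V, ⊤) Γ(X', a ⁻¹ᵁ U) := (av b (U := ⊤) (V := a ⁻¹ᵁ U) le_top).toAlgebra
    refine bc_bijective_of_isPushout' (A := Γ(Y, ⊤)) (B := Γ(V, ⊤)) (R := Γ(X, U))
      (R' := Γ(X', a ⁻¹ᵁ U)) (a.app U).hom ?_ (s U) fun r => (app_eq_av a U r).symm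
    exact isPushout_app_of_flat H U h1 h2
  have hqs : ∀ i j, IsQuasiSeparated ((W i ⊓ W j : X.Opens) : Set X) := fun i j ↦
    (hW' i).of_subset (by simp)
  let N : ι → Type u := fun j => Γ(X, W j)
  let fM : Fam W g →ₗ[Γ(Y, ⊤)] (∀ j, Γ(X, W j)) :=
    { toFun := fun m => m.1
      map_add' := fun _ _ => rfl
      map_smul' := fun r m => funext fun j => hM' r m j }
  let fP : Fam (fun j => a ⁻¹ᵁ W j) g' →ₗ[Γ(V, ⊤)] (∀ j, Γ(X', a ⁻¹ᵁ W j)) :=
    { toFun := fun m => m.1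
      map_add' := fun _ _ => rfl
      map_smul' := fun r m => funext fun j => hP' r m j }
  let gM : (∀ j, Γ(X, W j)) →ₗ[Γ(Y, ⊤)] (∀ k : ι × ι, Γ(X, W k.1 ⊓ W k.2)) :=
    { toFun := fun m k => ores inf_le_left (m k.1) * g k.1 k.2 - ores inf_le_right (m k.2)
      map_add' := fun m m' => funext fun k => by
        simp only [Pi.add_apply, map_add]
        ring
      map_smul' := fun r m => funext fun k => by
        change ores inf_le_left (av f (U := ⊤) le_top r * m k.1) * g k.1 k.2 -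
          ores inf_le_right (av f (U := ⊤) le_top r * m k.2) = av f (U := ⊤) le_top r *
            (ores inf_le_left (m k.1) * g k.1 k.2 - ores inf_le_right (m k.2))
        simp only [map_mul, ores_av]
        ring }
  let gP : (∀ j, Γ(X', a ⁻¹ᵁ W j)) →ₗ[Γ(V, ⊤)] (∀ k : ι × ι, Γ(X', a ⁻¹ᵁ W k.1 ⊓ a ⁻¹ᵁ W k.2)) :=
    { toFun := fun m k => ores (inf_le_left : a ⁻¹ᵁ W k.1 ⊓ a ⁻¹ᵁ W k.2 ≤ _) (m k.1) * g' k.1 k.2 -
        ores (inf_le_right : a ⁻¹ᵁ W k.1 ⊓ a ⁻¹ᵁ W k.2 ≤ _) (m k.2)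
      map_add' := fun m m' => funext fun k => by
        simp only [Pi.add_apply, map_add]
        ring
      map_smul' := fun r m => funext fun k => by
        change ores (inf_le_left : a ⁻¹ᵁ W k.1 ⊓ a ⁻¹ᵁ W k.2 ≤ _)
            (av b (U := ⊤) le_top r * m k.1) * g' k.1 k.2 -
          ores (inf_le_right : a ⁻¹ᵁ W k.1 ⊓ a ⁻¹ᵁ W k.2 ≤ _) (av b (U := ⊤) le_top r * m k.2) =
            av b (U := ⊤) le_top r *
            (ores (inf_le_left : a ⁻¹ᵁ W k.1 ⊓ a ⁻¹ᵁ W k.2 ≤ _) (m k.1) * g' k.1 k.2 -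
              ores (inf_le_right : a ⁻¹ᵁ W k.1 ⊓ a ⁻¹ᵁ W k.2 ≤ _) (m k.2))
        simp only [map_mul, ores_av]
        ring }
  refine VarietyB.BCAlg.bc_bijective _ (VarietyB.BCAlg.piS fun j => s (W j))
    (VarietyB.BCAlg.piS fun k : ι × ι => s (W k.1 ⊓ W k.2)) fM fP gM gP ?_ ?_ ?_ ?_ ?_ ?_ ?_ ?_
  · intro m
    funext j
    exact hu m j
  · intro m
    funext k
    change ores _ (av a le_rfl (m k.1)) * g' k.1 k.2 - ores _ (av a le_rfl (m k.2)) =
      av a le_rfl (ores inf_le_left (m k.1) * g k.1 k.2 - ores inf_le_right (m k.2))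
    rw [map_sub, map_mul, av_ores, av_ores, ores_av, ores_av, hg']
    rfl
  · intro m m' h
    exact Subtype.ext h
  · intro m m' h
    exact Subtype.ext h
  · intro m
    constructor
    · intro h
      refine ⟨⟨m, fun i j => ?_⟩, rfl⟩
      exact sub_eq_zero.mp (congrFun h (i, j))
    · rintro ⟨m, rfl⟩
      funext k
      exact sub_eq_zero.mpr (m.2 k.1 k.2)
  · intro m
    funext k
    exact sub_eq_zero.mpr (m.2 k.1 k.2)
  · exact VarietyB.BCAlg.bc_piS_bijective _ fun j => hs _ (hW j) (hW' j)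
  · exact VarietyB.BCAlg.bc_piS_injective _ fun k => (hs _ (hcc k.1 k.2) (hqs k.1 k.2)).1

end K99.Av
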