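import Groth.Agent.Desc.K388.LocEff
import Groth.Agent.Fga.QT9Loc
import Groth.Agent.S7198
import Groth.Agent.S7521
import Groth.Agent.S1131
import Groth.Agent.S1132

/-!
# fppf descent for a property with a canonical polarization

`P` is a property of morphisms which is stable under base change, Zariski local on the base, descends along
finite locally free surjective morphisms, and such that each `f` in `P` has a relatively ample invertible module.
Then every descent datum with structure morphism in `P`, relative to a flat surjective morphism locally of finite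
presentation, is effective (`effective`).

The cover is refined by Zariski covers and finite locally free covers (S7198); finite locally free covers are
handled by S7521.
-/

set_option autoImplicit false
set_option backward.isDefEq.respectTransparency false
set_option backward.isDefEq.respectTransparency.types false
open CategoryTheory CategoryTheory.Limits AlgebraicGeometry Opposite
universe u

namespace K99.FppfRep

open _root_.Desc Groth.Agent.Desc.SecFunctor Groth.Agent.Desc.SecPresheaf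
  Groth.Agent.Desc.SecDescent Groth.Agent.Picfga.OverRep Groth.Agent.Desc.ZarGlue

/-- representability by a scheme with `P`. -/
def Rep (P : MorphismProperty Scheme.{u}) {S : Scheme.{u}} (F : (Over S)ᵒᵖ ⥤ Type u) : Prop :=
  ∃ U : Over S, P U.hom ∧ Nonempty (F.RepresentableBy U)

variable {P : MorphismProperty Scheme.{u}} {X S : Scheme.{u}} {p : X ⟶ S}

theorem Rep.of_iso {F F' : (Over S)ᵒᵖ ⥤ Type u} (h : Rep P F) (e : F ≅ F') : Rep P F' := by
  obtain ⟨U, hU, ⟨r⟩⟩ := h
  exact ⟨U, hU, ⟨r.ofIso e⟩⟩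

theorem Rep.restrict [P.IsStableUnderBaseChange] {S' : Scheme.{u}} (q : S' ⟶ S)
    {F : (Over S)ᵒᵖ ⥤ Type u} (h : Rep P F) : Rep P (restr q F) := by
  obtain ⟨U, hU, ⟨r⟩⟩ := h
  exact ⟨(Over.pullback q).obj U, P.pullback_snd _ _ hU, ⟨pullRep q r⟩⟩

theorem Rep.restrict_comp [P.IsStableUnderBaseChange] {S' S'' : Scheme.{u}} {q : S' ⟶ S} {r : S'' ⟶ S'}
    {t : S'' ⟶ S} (h : r ≫ q = t) {F : (Over S)ᵒᵖ ⥤ Type u} (hF : Rep P (restr q F)) : Rep P (restr t F) :=
  (hF.restrict r).of_iso (restrCompIso h F)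

/-- Zariski gluing. -/
theorem Rep.of_open [IsZariskiLocalAtTarget P] {F : (Over S)ᵒᵖ ⥤ Type u} (hF : IsZarSheaf F)
    (h : ∀ s : S, ∃ W : S.Opens, s ∈ W ∧ Rep P (restr W.ι F)) : Rep P F := by
  choose W hsW hW using h
  choose U hU e using hW
  exact exists_rep_of_openCover_prop W (fun s => ⟨s, hsW s⟩) U (fun s => (e s).some) hF P hU

/-- Finite locally free covers. -/
theorem Rep.of_finLocFree {T S : Scheme.{u}} (ρ : T ⟶ S) [Surjective ρ] [IsFinite ρ] [Flat ρ]
    [LocallyOfFinitePresentation ρ]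
    (hdesc : ∀ {Y : Scheme.{u}} (f : Y ⟶ S), P (pullback.snd f ρ) → P f) [P.RespectsIso]
    (hample : ∀ {Y : Scheme.{u}} (f : Y ⟶ T), P f → ∃ L : Y.Modules, RelAmple.IsRelAmple f L)
    {F : (Over S)ᵒᵖ ⥤ Type u} (hF : IsPSheaf ρ F) (h : Rep P (restr ρ F)) : Rep P F := by
  obtain ⟨E, hE, ⟨e⟩⟩ := h
  obtain ⟨L, hL⟩ := hample E.hom hE
  obtain ⟨U, ⟨i⟩⟩ := Groth.Agent.S7521.result ρ (ofPresheaf e) L hL
  have := Groth.Agent.S1131.result ρ
  have := Groth.Agent.S1132.result ρ
  let r : F.RepresentableBy U := representableByOfEffective e hF i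
  refine ⟨U, ?_, ⟨r⟩⟩
  apply hdesc
  have j : (Over.pullback ρ).obj U ≅ E := (pullRep ρ r).uniqueUpToIso e
  have h3 : P ((Over.pullback ρ).obj U).hom := by
    rw [← Over.w j.hom]
    exact (P.cancel_left_of_respectsIso _ _).mpr hE
  exact h3

variable [P.IsStableUnderBaseChange] [IsZariskiLocalAtTarget P]
  (hdesc : ∀ {Y T S : Scheme.{u}} (f : Y ⟶ S) (ρ : T ⟶ S), Surjective ρ → IsFinite ρ → Flat ρ →
    LocallyOfFinitePresentation ρ → P (pullback.snd f ρ) → P f)
  (hample : ∀ {Y T : Scheme.{u}} (f : Y ⟶ T), P f → ∃ L : Y.Modules, RelAmple.IsRelAmple f L)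

include hdesc hample in
/-- fppf descent for a property with a canonical polarization. -/
theorem rep_secFunctor [Flat p] [Surjective p] [LocallyOfFinitePresentation p] (D : SchDD p)
    (hD : P D.obj.hom) : Rep P (secFunctor D) := by
  have hZ : IsZarSheaf (secFunctor D) := Groth.Agent.Desc.ZarSec.isZarSheaf_secFunctor D
  -- finite locally free covers of any base over `S`
  have key : ∀ {T S₀ : Scheme.{u}} (ρ : T ⟶ S₀) (j : S₀ ⟶ S), Mor2.IsFinLocFree ρ → Surjective ρ →
      Rep P (restr (ρ ≫ j) (secFunctor D)) → Rep P (restr j (secFunctor D)) := by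
    rintro T S₀ ρ j ⟨h1, h2, h3⟩ h4 h
    refine Rep.of_finLocFree ρ (fun f => hdesc f ρ h4 h1 h2 h3) (fun f => hample f)
      (K388.LocEff.isPSheaf_of_fpqc D ρ j) ?_
    exact h.of_iso (restrCompIso rfl (secFunctor D)).symm
  refine Rep.of_open hZ fun s => ?_
  obtain ⟨U, W, π, hsU, hπ, hπs, H⟩ := Groth.Agent.S7198.result
    (E := PreZeroHypercover.singleton.{0} p) (fun _ => inferInstanceAs (Flat p))
    (fun _ => inferInstanceAs (LocallyOfFinitePresentation p))
    (fun s => ⟨PUnit.unit, p.surjective s⟩) s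
  refine ⟨U, hsU, key π U.ι hπ hπs ?_⟩
  refine Rep.of_open (Groth.Agent.Fga.NoethRep.isZarSheaf_restr _ hZ) fun w => ?_
  obtain ⟨W', T, ρ, i, r, hw, hρ, hρs, hr⟩ := H w
  refine ⟨W', hw, ?_⟩
  have h1 : Rep P (restr (ρ ≫ W'.ι ≫ π ≫ U.ι) (secFunctor D)) := by
    have h2 : Rep P (restr p (secFunctor D)) := ⟨D.obj, hD, ⟨restrRep D⟩⟩
    exact h2.restrict_comp hr
  have h2 := key ρ (W'.ι ≫ π ≫ U.ι) hρ hρs h1
  exact h2.of_iso (restrCompIso (p' := W'.ι) (q := π ≫ U.ι) rfl (secFunctor D)).symm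

include hdesc hample in
theorem effective [Flat p] [Surjective p] [LocallyOfFinitePresentation p] (D : SchDD p)
    (hD : P D.obj.hom) : ∃ U : Over S, P U.hom ∧ Nonempty ((toDD p).obj U ≅ D) := by
  obtain ⟨U, hU, ⟨r⟩⟩ := rep_secFunctor hdesc hample D hD
  exact ⟨U, hU, effective_of_representableBy r⟩

end K99.FppfRep
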