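import Groth.Agent.Desc.K99.Av
import Groth.Agent.Desc.K388.DDGrpd
import Groth.Agent.Desc.SecDataGen

/-!
# Invariant sections of a line bundle with a descent datum

`Frames D W g δ`: a line bundle on the total scheme `X` of a descent datum `D` with frames `e_i` over `W i`,
`e_i = g_ij e_j`, together with a descent datum `s^* e_i = δ_ij t^* e_j` on the groupoid `R D ⇉ X`.
`exists_inv`: in the case of a flat morphism of affine schemes every point where a section does not vanish is a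
point where an invariant section does not vanish.
-/

set_option autoImplicit false
set_option backward.isDefEq.respectTransparency false
set_option backward.isDefEq.respectTransparency.types false
open CategoryTheory CategoryTheory.Limits AlgebraicGeometry Opposite TopologicalSpace TensorProduct
universe u

namespace K99.PolCore

open Groth.Agent Groth.Agent.Fdesc.LocGen Groth.Agent.Flat2H.FamExt K99.Av K388.DDGrpd _root_.Desc

/-- Functions which agree on small opens are equal. -/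
theorem ext_of_cover {Y : Scheme.{u}} {ι : Type*} (U : ι → Y.Opens) (hU : ∀ y, ∃ i, y ∈ U i) {V : Y.Opens}
    {a b : Γ(Y, V)} (h : ∀ (i : ι) (T : Y.Opens) (hT : T ≤ V), T ≤ U i → ores hT a = ores hT b) : a = b := by
  refine ores_ext (fun i => V ⊓ U i) (fun i => inf_le_left) (fun y hy => ?_) fun i => h i _ inf_le_left inf_le_right
  obtain ⟨i, hi⟩ := hU y
  exact Opens.mem_iSup.2 ⟨i, hy, hi⟩

/-- change of frames -/
theorem exists_theta {Y : Scheme.{u}} {ι κ : Type*} (U : ι → Y.Opens) (V : κ → Y.Opens)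
    (hU : ∀ y, ∃ i, y ∈ U i)
    (δ : ∀ i j, Γ(Y, U i ⊓ V j)) (c : ∀ i, Γ(Y, U i))
    (hc : ∀ (i i' : ι) (j : κ) (T : Y.Opens) (hi : T ≤ U i) (hi' : T ≤ U i') (hj : T ≤ V j),
      ores hi (c i) * ores (le_inf hi hj) (δ i j) = ores hi' (c i') * ores (le_inf hi' hj) (δ i' j)) :
    ∃ d : ∀ j, Γ(Y, V j), ∀ (i : ι) (j : κ) (T : Y.Opens) (hi : T ≤ U i) (hj : T ≤ V j),
      ores hj (d j) = ores hi (c i) * ores (le_inf hi hj) (δ i j) := by
  have key : ∀ j, ∃ d : Γ(Y, V j), ∀ i, ores (inf_le_right : U i ⊓ V j ≤ V j) d =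
      ores inf_le_left (c i) * δ i j := by
    intro j
    refine ores_glue (fun i => U i ⊓ V j) (fun i => inf_le_right) (fun y hy => ?_)
      (fun i => ores inf_le_left (c i) * δ i j) fun i i' => ?_
    · obtain ⟨i, hi⟩ := hU y
      exact Opens.mem_iSup.2 ⟨i, hi, hy⟩
    · rw [map_mul, map_mul, ores_ores, ores_ores]
      exact hc i i' j _ _ _ (inf_le_left.trans inf_le_right)
  choose d hd using key
  refine ⟨d, fun i j T hi hj => ?_⟩
  have h := congrArg (ores (le_inf hi hj)) (hd j i)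
  rw [map_mul, ores_ores, ores_ores] at h
  exact h

variable {S' S : Scheme.{u}} {p : S' ⟶ S} (D : SchDD p) {ι : Type*}

theorem fst_src : pullback.fst (src D) (tgt D) ≫ src D = pullback.snd (src D) (tgt D) ≫ tgt D :=
  pullback.condition

theorem cmp_src : cmp D ≫ src D = pullback.snd (src D) (tgt D) ≫ src D := by
  unfold K388.DDGrpd.cmp; exact pullback.lift_fst _ _ _

theorem cmp_pt : cmp D ≫ pt D = pullback.fst (src D) (tgt D) ≫ pt D := by
  unfold K388.DDGrpd.cmp; exact pullback.lift_snd _ _ _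

theorem cmp_tgt : cmp D ≫ tgt D = pullback.fst (src D) (tgt D) ≫ tgt D := by
  have h := lift_cmp_tgt D (pullback.fst (src D) (tgt D)) (pullback.snd (src D) (tgt D)) pullback.condition
  have h1 : pullback.lift (pullback.fst (src D) (tgt D)) (pullback.snd (src D) (tgt D)) pullback.condition =
      𝟙 _ := by
    apply pullback.hom_ext
    · rw [pullback.lift_fst, Category.id_comp]
    · rw [pullback.lift_snd, Category.id_comp]
  rw [h1, Category.id_comp] at h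
  exact h

theorem le_of_eq_hom {T Z : Scheme.{u}} {f f' : T ⟶ Z} (e : f = f') {V : T.Opens} {U : Z.Opens}
    (h : V ≤ f ⁻¹ᵁ U) : V ≤ f' ⁻¹ᵁ U := by subst e; exact h

theorem le_left {T Z : Scheme.{u}} {f : T ⟶ Z} {A B : Z.Opens} {V : T.Opens} (h : V ≤ f ⁻¹ᵁ (A ⊓ B)) :
    V ≤ f ⁻¹ᵁ A := h.trans (Scheme.Hom.preimage_mono f inf_le_left)

theorem le_right {T Z : Scheme.{u}} {f : T ⟶ Z} {A B : Z.Opens} {V : T.Opens} (h : V ≤ f ⁻¹ᵁ (A ⊓ B)) :
    V ≤ f ⁻¹ᵁ B := h.trans (Scheme.Hom.preimage_mono f inf_le_right)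

/-- A line bundle with frames and a descent datum. -/
structure Frames (W : ι → D.obj.left.Opens) (g : ∀ i j, Γ(D.obj.left, W i ⊓ W j))
    (δ : ∀ i j, Γ(R D, src D ⁻¹ᵁ W i ⊓ tgt D ⁻¹ᵁ W j)) : Prop where
  cover : ∀ x, ∃ i, x ∈ W i
  unit : ∀ i j, IsUnit (δ i j)
  left : ∀ (i i' j : ι) (T : (R D).Opens) (hi : T ≤ src D ⁻¹ᵁ W i) (hi' : T ≤ src D ⁻¹ᵁ W i')
    (hj : T ≤ tgt D ⁻¹ᵁ W j),
    av (src D) (U := W i ⊓ W i') (le_inf hi hi') (g i i') * ores (le_inf hi' hj) (δ i' j) =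
      ores (le_inf hi hj) (δ i j)
  right : ∀ (i j j' : ι) (T : (R D).Opens) (hi : T ≤ src D ⁻¹ᵁ W i) (hj : T ≤ tgt D ⁻¹ᵁ W j)
    (hj' : T ≤ tgt D ⁻¹ᵁ W j'),
    ores (le_inf hi hj) (δ i j) * av (tgt D) (U := W j ⊓ W j') (le_inf hj hj') (g j j') =
      ores (le_inf hi hj') (δ i j')
  cocycle : ∀ (i j k : ι) (T : (pullback (src D) (tgt D)).Opens)
    (hi : T ≤ (pullback.snd (src D) (tgt D) ≫ src D) ⁻¹ᵁ W i)
    (hj : T ≤ (pullback.snd (src D) (tgt D) ≫ tgt D) ⁻¹ᵁ W j)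
    (hk : T ≤ (pullback.fst (src D) (tgt D) ≫ tgt D) ⁻¹ᵁ W k),
    av (pullback.snd (src D) (tgt D)) (U := src D ⁻¹ᵁ W i ⊓ tgt D ⁻¹ᵁ W j) (le_inf hi hj) (δ i j) *
      av (pullback.fst (src D) (tgt D)) (U := src D ⁻¹ᵁ W j ⊓ tgt D ⁻¹ᵁ W k)
        (le_inf (le_of_eq_hom (fst_src D).symm hj) hk) (δ j k) =
      av (cmp D) (U := src D ⁻¹ᵁ W i ⊓ tgt D ⁻¹ᵁ W k)
        (le_inf (le_of_eq_hom (cmp_src D).symm hi) (le_of_eq_hom (cmp_tgt D).symm hk)) (δ i k)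

variable {D} {W : ι → D.obj.left.Opens} {g : ∀ i j, Γ(D.obj.left, W i ⊓ W j)}
  {δ : ∀ i j, Γ(R D, src D ⁻¹ᵁ W i ⊓ tgt D ⁻¹ᵁ W j)}

theorem Frames.pow (h : Frames D W g δ) (n : ℕ) :
    Frames D W (fun i j => g i j ^ n) (fun i j => δ i j ^ n) where
  cover := h.cover
  unit i j := (h.unit i j).pow n
  left i i' j T hi hi' hj := by
    rw [map_pow, map_pow, map_pow, ← mul_pow, h.left i i' j T hi hi' hj]
  right i j j' T hi hj hj' := by
    rw [map_pow, map_pow, map_pow, ← mul_pow, h.right i j j' T hi hj hj']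
  cocycle i j k T hi hj hk := by
    rw [map_pow, map_pow, map_pow, ← mul_pow, h.cocycle i j k T hi hj hk]

/-- The cocycle condition over a general base. -/
theorem Frames.cocycle' (h : Frames D W g δ) {T : Scheme.{u}} (a b c : T ⟶ R D)
    (hab : a ≫ src D = b ≫ tgt D) (hbc : c ≫ src D = b ≫ src D) (hac : c ≫ pt D = a ≫ pt D)
    (i j k : ι) (V : T.Opens) (hb : V ≤ b ⁻¹ᵁ (src D ⁻¹ᵁ W i ⊓ tgt D ⁻¹ᵁ W j))
    (ha : V ≤ a ⁻¹ᵁ (src D ⁻¹ᵁ W j ⊓ tgt D ⁻¹ᵁ W k)) (hc : V ≤ c ⁻¹ᵁ (src D ⁻¹ᵁ W i ⊓ tgt D ⁻¹ᵁ W k)) :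
    av b hb (δ i j) * av a ha (δ j k) = av c hc (δ i k) := by
  let l : T ⟶ pullback (src D) (tgt D) := pullback.lift a b hab
  have hl1 : l ≫ pullback.fst (src D) (tgt D) = a := pullback.lift_fst _ _ _
  have hl2 : l ≫ pullback.snd (src D) (tgt D) = b := pullback.lift_snd _ _ _
  have hlc : l ≫ cmp D = c := by
    apply R_ext
    · rw [lift_cmp_src, hbc]
    · rw [lift_cmp_pt, hac]
  let O : (pullback (src D) (tgt D)).Opens :=
    (pullback.snd (src D) (tgt D) ≫ src D) ⁻¹ᵁ W i ⊓ (pullback.snd (src D) (tgt D) ≫ tgt D) ⁻¹ᵁ W j ⊓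
      (pullback.fst (src D) (tgt D) ≫ tgt D) ⁻¹ᵁ W k
  have hV : V ≤ l ⁻¹ᵁ O := by
    have h1 : V ≤ (l ≫ pullback.snd (src D) (tgt D)) ⁻¹ᵁ (src D ⁻¹ᵁ W i ⊓ tgt D ⁻¹ᵁ W j) :=
      le_of_eq_hom hl2.symm hb
    have h2 : V ≤ (l ≫ pullback.fst (src D) (tgt D)) ⁻¹ᵁ (src D ⁻¹ᵁ W j ⊓ tgt D ⁻¹ᵁ W k) :=
      le_of_eq_hom hl1.symm ha
    have h3 : V ≤ (l ≫ pullback.fst (src D) (tgt D)) ⁻¹ᵁ (tgt D ⁻¹ᵁ W k) := le_right h2
    exact le_inf h1 h3
  have h1 := congrArg (av l hV) (h.cocycle i j k O (inf_le_left.trans inf_le_left)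
    (inf_le_left.trans inf_le_right) inf_le_right)
  rw [map_mul, av_av, av_av, av_av] at h1
  rw [av_congr hl2.symm hb (le_of_eq_hom hl2.symm hb), av_congr hl1.symm ha (le_of_eq_hom hl1.symm ha),
    av_congr hlc.symm hc (le_of_eq_hom hlc.symm hc)]
  exact h1

/-- On the diagonal. -/
theorem Frames.one_self (h : Frames D W g δ) (i : ι) (V : D.obj.left.Opens)
    (hV : V ≤ one D ⁻¹ᵁ (src D ⁻¹ᵁ W i ⊓ tgt D ⁻¹ᵁ W i)) : av (one D) hV (δ i i) = 1 := by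
  have h1 := h.cocycle' (one D) (one D) (one D) (by rw [one_src, one_tgt]) rfl rfl i i i V hV hV hV
  have hu : IsUnit (av (one D) hV (δ i i)) := (h.unit i i).map _
  exact hu.mul_left_cancel (h1.trans (mul_one _).symm)

theorem Frames.one_δ (h : Frames D W g δ) (i j : ι) (V : D.obj.left.Opens) (hi : V ≤ W i) (hj : V ≤ W j)
    (hV : V ≤ one D ⁻¹ᵁ (src D ⁻¹ᵁ W i ⊓ tgt D ⁻¹ᵁ W j)) :
    av (one D) hV (δ i j) = ores (le_inf hi hj) (g i j) := by
  have hVj : V ≤ one D ⁻¹ᵁ (src D ⁻¹ᵁ W j ⊓ tgt D ⁻¹ᵁ W j) := by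
    have h1 : V ≤ (one D ≫ src D) ⁻¹ᵁ W j := le_of_eq_hom (one_src D).symm hj
    exact le_inf h1 (le_right hV)
  let O : (R D).Opens := src D ⁻¹ᵁ W i ⊓ src D ⁻¹ᵁ W j ⊓ tgt D ⁻¹ᵁ W j
  have hO : V ≤ one D ⁻¹ᵁ O := le_inf (le_inf (le_left hV) (le_left hVj)) (le_right hV)
  have h1 := congrArg (av (one D) hO) (h.left i j j O (inf_le_left.trans inf_le_left)
    (inf_le_left.trans inf_le_right) inf_le_right)
  rw [map_mul, av_av, av_ores, av_ores, h.one_self j V, mul_one] at h1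
  refine h1.symm.trans ?_
  have h2 : V ≤ (𝟙 D.obj.left) ⁻¹ᵁ (W i ⊓ W j) := le_inf hi hj
  rw [av_congr (one_src D) _ h2, av_id]
  rfl

/-- families over the pullback of the cover -/
noncomputable abbrev FamAt (g : ∀ i j, Γ(D.obj.left, W i ⊓ W j)) {T : Scheme.{u}} (w : T ⟶ D.obj.left) :=
  Fam (fun j => w ⁻¹ᵁ W j) (fun i j => av w (U := W i ⊓ W j) (V := w ⁻¹ᵁ W i ⊓ w ⁻¹ᵁ W j) le_rfl (g i j))

/-- pullback of families on `X` -/
noncomputable def pbM {T : Scheme.{u}} (w : T ⟶ D.obj.left) : Fam W g →+ FamAt g w :=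
  pb w (fun j => w ⁻¹ᵁ W j) (fun _ => le_rfl) _ fun _ _ => rfl

theorem pbM_val {T : Scheme.{u}} (w : T ⟶ D.obj.left) (m : Fam W g) (j : ι) :
    (pbM w m).1 j = av w le_rfl (m.1 j) := rfl

/-- pullback of families -/
noncomputable def pbAt {T T' : Scheme.{u}} {w : T ⟶ D.obj.left} {w' : T' ⟶ D.obj.left} (k : T' ⟶ T)
    (hk : k ≫ w = w') : FamAt g w →+ FamAt g w' :=
  pb (W := fun j => w ⁻¹ᵁ W j) k (fun j => w' ⁻¹ᵁ W j) (fun j => le_of_eq_hom hk.symm (U := W j) le_rfl) _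
    fun i j => by
    rw [av_av]
    exact av_congr hk.symm _ _ _

theorem pbAt_val {T T' : Scheme.{u}} {w : T ⟶ D.obj.left} {w' : T' ⟶ D.obj.left} (k : T' ⟶ T)
    (hk : k ≫ w = w') (c : FamAt g w) (j : ι) :
    (pbAt k hk c).1 j = av k (le_of_eq_hom hk.symm (U := W j) le_rfl) (c.1 j) := rfl

/-- existence of the transport of families along an arrow -/
theorem Frames.exists_th (h : Frames D W g δ) {T : Scheme.{u}} (r : T ⟶ R D) {w v : T ⟶ D.obj.left}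
    (hw : r ≫ src D = w) (hv : r ≫ tgt D = v) (c : FamAt g w) :
    ∃ d : FamAt g v, ∀ (i j : ι) (V : T.Opens) (hi : V ≤ w ⁻¹ᵁ W i) (hj : V ≤ v ⁻¹ᵁ W j),
      ores hj (d.1 j) = ores hi (c.1 i) * av r (U := src D ⁻¹ᵁ W i ⊓ tgt D ⁻¹ᵁ W j)
        (le_inf (le_of_eq_hom hw.symm hi) (le_of_eq_hom hv.symm hj)) (δ i j) := by
  subst hw hv
  have hcov : ∀ t : T, ∃ i, t ∈ (r ≫ src D) ⁻¹ᵁ W i := fun t => h.cover _
  obtain ⟨d, hd⟩ := exists_theta (fun i => (r ≫ src D) ⁻¹ᵁ W i) (fun j => (r ≫ tgt D) ⁻¹ᵁ W j) hcov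
    (fun i j => av r (U := src D ⁻¹ᵁ W i ⊓ tgt D ⁻¹ᵁ W j) (le_inf inf_le_left inf_le_right) (δ i j))
    c.1 (fun i i' j V hi hi' hj => by
      have h1 := fam_ores c i i' hi hi'
      rw [ores_av] at h1
      have hO : V ≤ r ⁻¹ᵁ (src D ⁻¹ᵁ W i ⊓ src D ⁻¹ᵁ W i' ⊓ tgt D ⁻¹ᵁ W j) := le_inf (le_inf hi hi') hj
      have h2 := congrArg (av r hO) (h.left i i' j _ (inf_le_left.trans inf_le_left)
        (inf_le_left.trans inf_le_right) inf_le_right)
      rw [map_mul, av_av, av_ores, av_ores] at h2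
      rw [ores_av, ores_av, ← h1, ← h2]
      ring)
  have hd' : ∀ (i j : ι) (V : T.Opens) (hi : V ≤ (r ≫ src D) ⁻¹ᵁ W i) (hj : V ≤ (r ≫ tgt D) ⁻¹ᵁ W j),
      ores hj (d j) = ores hi (c.1 i) * av r (U := src D ⁻¹ᵁ W i ⊓ tgt D ⁻¹ᵁ W j)
        (le_inf hi hj) (δ i j) := by
    intro i j V hi hj
    rw [hd i j V hi hj, ores_av]
  refine ⟨⟨d, fun j j' => ?_⟩, hd'⟩
  refine ext_of_cover (fun i => (r ≫ src D) ⁻¹ᵁ W i) hcov fun i V hV hi => ?_
  have hj : V ≤ (r ≫ tgt D) ⁻¹ᵁ W j := hV.trans inf_le_left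
  have hj' : V ≤ (r ≫ tgt D) ⁻¹ᵁ W j' := hV.trans inf_le_right
  have hO : V ≤ r ⁻¹ᵁ (src D ⁻¹ᵁ W i ⊓ tgt D ⁻¹ᵁ W j ⊓ tgt D ⁻¹ᵁ W j') := le_inf (le_inf hi hj) hj'
  have h2 := congrArg (av r hO) (h.right i j j' _ (inf_le_left.trans inf_le_left)
    (inf_le_left.trans inf_le_right) inf_le_right)
  rw [map_mul, av_av, av_ores, av_ores] at h2
  rw [map_mul, ores_ores, ores_ores, ores_av]
  rw [hd' i j V hi hj, hd' i j' V hi hj', ← h2]
  ring

/-- The transport of families along an arrow. -/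
noncomputable def Frames.th (h : Frames D W g δ) {T : Scheme.{u}} (r : T ⟶ R D) {w v : T ⟶ D.obj.left}
    (hw : r ≫ src D = w) (hv : r ≫ tgt D = v) : FamAt g w →+ FamAt g v where
  toFun c := (h.exists_th r hw hv c).choose
  map_zero' := by
    refine Fam.ext' fun j => ?_
    refine ext_of_cover (fun i => w ⁻¹ᵁ W i) (fun t => h.cover _) fun i V hV hi => ?_
    rw [(h.exists_th r hw hv 0).choose_spec i j V hi hV]
    change ores hi 0 * _ = ores hV 0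
    rw [map_zero, map_zero, zero_mul]
  map_add' c c' := by
    refine Fam.ext' fun j => ?_
    refine ext_of_cover (fun i => w ⁻¹ᵁ W i) (fun t => h.cover _) fun i V hV hi => ?_
    rw [add_val, map_add, (h.exists_th r hw hv (c + c')).choose_spec i j V hi hV,
      (h.exists_th r hw hv c).choose_spec i j V hi hV, (h.exists_th r hw hv c').choose_spec i j V hi hV,
      add_val, map_add, add_mul]

theorem Frames.th_val (h : Frames D W g δ) {T : Scheme.{u}} (r : T ⟶ R D) {w v : T ⟶ D.obj.left}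
    (hw : r ≫ src D = w) (hv : r ≫ tgt D = v) (c : FamAt g w) (i j : ι) (V : T.Opens)
    (hi : V ≤ w ⁻¹ᵁ W i) (hj : V ≤ v ⁻¹ᵁ W j) :
    ores hj ((h.th r hw hv c).1 j) = ores hi (c.1 i) * av r (U := src D ⁻¹ᵁ W i ⊓ tgt D ⁻¹ᵁ W j)
        (le_inf (le_of_eq_hom hw.symm hi) (le_of_eq_hom hv.symm hj)) (δ i j) :=
  (h.exists_th r hw hv c).choose_spec i j V hi hj

end K99.PolCore
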