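import Groth.Agent.Desc.K99.PolCore

/-!
# Invariant sections, continued
-/

set_option autoImplicit false
set_option backward.isDefEq.respectTransparency false
set_option backward.isDefEq.respectTransparency.types false
open CategoryTheory CategoryTheory.Limits AlgebraicGeometry Opposite TopologicalSpace TensorProduct
universe u

namespace K99.PolInv

open Groth.Agent Groth.Agent.Fdesc.LocGen Groth.Agent.Flat2H.FamExt K99.Av K388.DDGrpd _root_.Desc
  K99.PolCore Groth.Agent.Desc.SecD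

theorem appTop_eq_av {X Y : Scheme.{u}} (f : X ⟶ Y) (a : Γ(Y, ⊤)) :
    f.appTop a = av f (U := ⊤) (V := ⊤) le_rfl a := app_eq_av f ⊤ a

variable {S' S : Scheme.{u}} {p : S' ⟶ S} {D : SchDD p} {ι : Type*}
  {W : ι → D.obj.left.Opens} {g : ∀ i j, Γ(D.obj.left, W i ⊓ W j)}
  {δ : ∀ i j, Γ(R D, src D ⁻¹ᵁ W i ⊓ tgt D ⁻¹ᵁ W j)}

/-- `δ s^*`. -/
noncomputable def du (h : Frames D W g δ) : Fam W g →+ FamAt g (tgt D) :=
  (h.th (𝟙 (R D)) (w := src D) (v := tgt D) (Category.id_comp _) (Category.id_comp _)).comp (pbM (src D))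

theorem du_val (h : Frames D W g δ) (m : Fam W g) (i j : ι) (V : (R D).Opens)
    (hi : V ≤ src D ⁻¹ᵁ W i) (hj : V ≤ tgt D ⁻¹ᵁ W j) :
    ores hj ((du h m).1 j) = av (src D) hi (m.1 i) * ores (le_inf hi hj) (δ i j) := by
  have h1 := h.th_val (𝟙 (R D)) (w := src D) (v := tgt D) (Category.id_comp _) (Category.id_comp _)
    (pbM (src D) m) i j V hi hj
  refine h1.trans ?_
  rw [pbM_val, ores_av, av_id]
  rfl

theorem isPullback_tgt (D : SchDD p) :
    IsPullback (tgt D) (src D ≫ D.obj.hom) (D.obj.hom ≫ p) p := by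
  have := isIso_inve D
  refine IsPullback.of_iso (isPullback_src D).flip (asIso (inve D)).symm (Iso.refl _) (Iso.refl _)
    (Iso.refl _) ?_ ?_ ?_ ?_
  · rw [Iso.refl_hom, Category.comp_id, Iso.symm_hom, asIso_inv, IsIso.eq_inv_comp, inve_src]
  · rw [Iso.refl_hom, Category.comp_id, Iso.symm_hom, asIso_inv, IsIso.eq_inv_comp, inve_pt]
  · simp
  · simp

theorem isPullback_two (D : SchDD p) :
    IsPullback (pullback.fst (src D) (tgt D)) (pullback.snd (src D) (tgt D) ≫ src D ≫ D.obj.hom)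
      (src D ≫ D.obj.hom ≫ p) p :=
  (IsPullback.of_hasPullback (src D) (tgt D)).paste_vert (isPullback_tgt D)

theorem le_one (D : SchDD p) (U : D.obj.left.Opens) : U ≤ one D ⁻¹ᵁ (tgt D ⁻¹ᵁ U) := by
  have h : (one D ≫ tgt D) ⁻¹ᵁ U = U := by rw [one_tgt]; rfl
  exact h.ge

theorem av_one (D : SchDD p) {U : D.obj.left.Opens} (a : Γ(D.obj.left, U)) {V : D.obj.left.Opens}
    (h : V ≤ one D ⁻¹ᵁ (tgt D ⁻¹ᵁ U)) (h' : V ≤ U) :
    av (one D) h (av (tgt D) (le_refl (tgt D ⁻¹ᵁ U)) a) = ores h' a := by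
  rw [av_av]
  have h2 : V ≤ (𝟙 D.obj.left) ⁻¹ᵁ U := h'
  rw [av_congr (one_tgt D) _ h2, av_id]
  rfl

theorem av_one_src (D : SchDD p) {U : D.obj.left.Opens} (a : Γ(D.obj.left, U)) {V : D.obj.left.Opens}
    (h : V ≤ (one D ≫ src D) ⁻¹ᵁ U) (h' : V ≤ U) : av (one D ≫ src D) h a = ores h' a := by
  have h2 : V ≤ (𝟙 D.obj.left) ⁻¹ᵁ U := h'
  rw [av_congr (one_src D) _ h2, av_id]
  rfl

/-- restriction to the diagonal -/
noncomputable def tOne : FamAt g (tgt D) →+ Fam W g :=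
  pb (W := fun j => tgt D ⁻¹ᵁ W j) (one D) W (fun j => le_one D (W j)) g fun i j => by
    have h := av_one D (g i j) (V := W i ⊓ W j) (le_one D (W i ⊓ W j)) le_rfl
    rw [ores_refl] at h
    exact h.symm

theorem tOne_val (c : FamAt g (tgt D)) (j : ι) :
    (tOne c).1 j = av (one D) (le_one D (W j)) (c.1 j) := rfl

/-- the module of sections and the submodule of invariant sections -/
theorem exists_sub [IsAffine S] [IsAffine S'] [Flat p] [Finite ι] (h : Frames D W g δ)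
    (hW : ∀ j, IsCompact (W j : Set D.obj.left)) (hW' : ∀ j, IsQuasiSeparated (W j : Set D.obj.left))
    (hcc : ∀ i j, IsCompact ((W i ⊓ W j : D.obj.left.Opens) : Set D.obj.left)) :
    ∃ (N : AddSubgroup (Fam W g)) (iN : Module Γ(S, ⊤) N),
      (∀ m, m ∈ N ↔ du h m = pbM (tgt D) m) ∧
      IsBC p.appTop.hom iN (Module.compHom _ D.obj.hom.appTop.hom) N.subtype := by
  have hpa : IsAffineHom p := inferInstance
  have hta : IsAffineHom (tgt D) := tgt_of D @IsAffineHom hpa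
  let α := pullback.fst (src D) (tgt D)
  let β := pullback.snd (src D) (tgt D)
  let iM : Module Γ(S', ⊤) (Fam W g) := Module.compHom _ D.obj.hom.appTop.hom
  let iQ : Module Γ(S', ⊤) (FamAt g (α ≫ tgt D)) :=
    Module.compHom _ (β ≫ src D ≫ D.obj.hom).appTop.hom
  let ψ : Γ(S', ⊤) →+* Γ(R D, ⊤) := (src D ≫ D.obj.hom).appTop.hom
  have hiM : ∀ (s : Γ(S', ⊤)) (m : Fam W g) (j : ι), (s • m).1 j =
      av D.obj.hom (U := ⊤) le_top s * m.1 j := fun s m j => by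
    change ores le_top (D.obj.hom.appTop s) * m.1 j = _
    rw [appTop_eq_av, ores_av]
  have hψ : ∀ (s : Γ(S', ⊤)) (m : FamAt g (tgt D)) (j : ι), (ψ s • m).1 j =
      av (src D ≫ D.obj.hom) (U := ⊤) le_top s * m.1 j := fun s m j => by
    change ores le_top ((src D ≫ D.obj.hom).appTop s) * m.1 j = _
    rw [appTop_eq_av, ores_av]
  have hiQ : ∀ (s : Γ(S', ⊤)) (m : FamAt g (α ≫ tgt D)) (j : ι), (s • m).1 j =
      av (β ≫ src D ≫ D.obj.hom) (U := ⊤) le_top s * m.1 j := fun s m j => by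
    change ores le_top ((β ≫ src D ≫ D.obj.hom).appTop s) * m.1 j = _
    rw [appTop_eq_av, ores_av]
  let t₂₃ : FamAt g (tgt D) →+ FamAt g (α ≫ tgt D) := pbAt α rfl
  let t₁₂ : FamAt g (tgt D) →+ FamAt g (α ≫ tgt D) :=
    (h.th α (fst_src D) rfl).comp (pbAt β rfl)
  let t₁₃ : FamAt g (tgt D) →+ FamAt g (α ≫ tgt D) := pbAt (cmp D) (cmp_tgt D)
  have hc12 : ∀ (c : FamAt g (tgt D)) (i j : ι) (V : (pullback (src D) (tgt D)).Opens)
      (hi : V ≤ (β ≫ tgt D) ⁻¹ᵁ W i) (hj : V ≤ (α ≫ tgt D) ⁻¹ᵁ W j),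
      ores hj ((t₁₂ c).1 j) = av β hi (c.1 i) * av α (U := src D ⁻¹ᵁ W i ⊓ tgt D ⁻¹ᵁ W j)
        (le_inf (le_of_eq_hom (fst_src D).symm hi) hj) (δ i j) := by
    intro c i j V hi hj
    have h1 := h.th_val α (fst_src D) rfl (pbAt (g := g) β rfl c) i j V hi hj
    refine h1.trans ?_
    rw [pbAt_val, ores_av]
  have hβ : ∀ t, ∃ i, t ∈ (β ≫ tgt D) ⁻¹ᵁ W i := fun t => h.cover _
  suffices H : ∃ (N : AddSubgroup (Fam W g)) (iN : Module Γ(S, ⊤) N),
      (∀ (r : Γ(S, ⊤)) (n : N), ((r • n : N) : Fam W g) = p.appTop.hom r • (n : Fam W g)) ∧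
      (∀ m, m ∈ N ↔ du h m = pbM (tgt D) m) ∧ IsBC p.appTop.hom iN iM N.subtype by
    obtain ⟨N, iN, -, h2, h3⟩ := H
    exact ⟨N, iN, h2, h3⟩
  refine exists_sub_alg_of (φ := p.appTop.hom) (ψ := ψ) (iQ := iQ)
    (E := Fam W g) (Q' := FamAt g (α ≫ tgt D))
    (CoactEff.of_flat p.flat_appTop) iM (inferInstance : Module Γ(R D, ⊤) (FamAt g (tgt D)))
    (du h) ?_ (pbM (tgt D)) ?_ tOne (AddMonoidHom.id _) (fun _ _ h => h) ?_ ?_ t₂₃ ?_ t₁₂
    (AddMonoidHom.id _) t₁₃ ?_ ?_ ?_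
  · -- semilinearity of `du`
    intro s m
    refine Fam.ext' fun j => ext_of_cover (fun i => src D ⁻¹ᵁ W i) (fun t => h.cover _)
      fun i V hV hi => ?_
    rw [du_val h _ i j V hi hV, hiM, hψ, map_mul, map_mul, du_val h _ i j V hi hV, av_av, ores_av, mul_assoc]
  · refine isBC (isPullback_tgt D) W hW hW' hcc g _ (fun i j => rfl) _ (fun r m => ?_) _
      (fun r m => rfl) _ fun m j => rfl
    rw [Scheme.Hom.comp_appTop]
    rfl
  · -- counit
    intro s m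
    refine Fam.ext' fun j => ?_
    change av (one D) _ ((ψ s • (pbM (tgt D)) m).1 j) = (s • m).1 j
    rw [hψ, hiM, map_mul, pbM_val, av_one D (m.1 j) _ le_rfl, ores_refl, av_av]
    congr 1
    exact av_congr (by rw [← Category.assoc, one_src, Category.id_comp]) _ _ _
  · intro m
    refine Fam.ext' fun j => ext_of_cover W h.cover fun i V hV hi => ?_
    change ores hV (av (one D) _ ((du h m).1 j)) = ores hV (m.1 j)
    have hO : V ≤ one D ⁻¹ᵁ (src D ⁻¹ᵁ W i ⊓ tgt D ⁻¹ᵁ W j) :=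
      le_inf (le_of_eq_hom (one_src D).symm hi) (le_of_eq_hom (one_tgt D).symm hV)
    have h1 := congrArg (av (one D) hO) (du_val h m i j _ inf_le_left inf_le_right)
    rw [map_mul, av_ores, av_av, av_ores] at h1
    rw [ores_av]
    refine h1.trans ?_
    rw [h.one_δ i j V hi hV, av_one_src D (m.1 i) _ hi]
    exact fam_ores m i j hi hV
  · have hcc' : ∀ i j, IsCompact ((tgt D ⁻¹ᵁ W i ⊓ tgt D ⁻¹ᵁ W j : (R D).Opens) : Set (R D)) :=
      fun i j => (tgt D).isCompact_preimage (hcc i j)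
    refine isBC (f := src D ≫ D.obj.hom ≫ p) (isPullback_two D) (fun j => tgt D ⁻¹ᵁ W j)
      (fun j => (tgt D).isCompact_preimage (hW j))
      (fun j => (tgt D).isQuasiSeparated_preimage (hW' j)) hcc' _ _ (fun i j => ?_) _ (fun r m => ?_) _
      (fun r m => rfl) _ fun m j => rfl
    · rw [av_av]
      rfl
    · rw [← Category.assoc, Scheme.Hom.comp_appTop]
      rfl
  · -- h1
    intro s m
    refine Fam.ext' fun k => ext_of_cover (fun i => (β ≫ tgt D) ⁻¹ᵁ W i) hβ fun j V hk hj => ?_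
    change ores hk ((s • t₂₃ (du h m)).1 k) = ores hk ((t₁₂ (ψ s • (pbM (tgt D)) m)).1 k)
    have hO : V ≤ α ⁻¹ᵁ (src D ⁻¹ᵁ W j ⊓ tgt D ⁻¹ᵁ W k) :=
      le_inf (le_of_eq_hom (fst_src D).symm hj) hk
    have h1 := congrArg (av α hO) (du_val h m j k _ inf_le_left inf_le_right)
    rw [map_mul, av_ores, av_av, av_ores] at h1
    rw [hc12 _ j k V hj hk, hiQ, map_mul, hψ, map_mul, pbAt_val, pbM_val, ores_av, ores_av, av_av, av_av]
    rw [h1, mul_assoc]
    congr 2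
    exact av_congr (fst_src D) _ _ _
  · intro s m
    refine Fam.ext' fun k => ?_
    rw [hiQ, pbAt_val, pbM_val, av_av]
    change _ = av (cmp D) _ ((ψ s • (pbM (tgt D)) m).1 k)
    rw [hψ, pbM_val, map_mul, av_av, av_av]
    congr 1
    · exact av_congr (by rw [← Category.assoc, ← Category.assoc, cmp_src]) _ _ _
    · exact av_congr (cmp_tgt D).symm _ _ _
  · intro m
    refine Fam.ext' fun k => ext_of_cover (fun i => (β ≫ tgt D) ⁻¹ᵁ W i) hβ fun j V hk hj => ?_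
    refine ext_of_cover (fun i => (β ≫ src D) ⁻¹ᵁ W i) (fun t => h.cover _) fun i V' hV' hi => ?_
    have hj' := hV'.trans hj
    have hk' := hV'.trans hk
    change ores hV' (ores hk ((t₁₂ (du h m)).1 k)) = ores hV' (ores hk ((t₁₃ (du h m)).1 k))
    rw [ores_ores, ores_ores, hc12 _ j k V' hj' hk', pbAt_val, ores_av]
    have hO : V' ≤ β ⁻¹ᵁ (src D ⁻¹ᵁ W i ⊓ tgt D ⁻¹ᵁ W j) := le_inf hi hj'
    have h1 := congrArg (av β hO) (du_val h m i j _ inf_le_left inf_le_right)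
    rw [map_mul, av_ores, av_av, av_ores] at h1
    have hO' : V' ≤ cmp D ⁻¹ᵁ (src D ⁻¹ᵁ W i ⊓ tgt D ⁻¹ᵁ W k) :=
      le_inf (le_of_eq_hom (cmp_src D).symm hi) (le_of_eq_hom (cmp_tgt D).symm hk')
    have h2 := congrArg (av (cmp D) hO') (du_val h m i k _ inf_le_left inf_le_right)
    rw [map_mul, av_ores, av_av, av_ores] at h2
    rw [h1, h2, mul_assoc, h.cocycle i j k V' hi hj' hk']
    congr 1
    exact av_congr (cmp_src D).symm _ _ _

end K99.PolInv
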