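import Groth.Agent.Desc.K99.PolCore
import Groth.Agent.Fdesc.LocGenPullback

/-!
# Frames from a line bundle with a descent datum

`ps θ V h m`: for `θ : f^* L ⟶ M` and a section `m` of `L` over `U`, the section `θ (f^* m)` of `M` restricted to
`V ≤ f⁻¹ U`.  `exists_frames`: a line bundle `L₀` on `X`, `L₁` on the arrows, `L₂` on the composable pairs of the groupoid
of a descent datum, with compatible identifications, give `Frames`.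
-/

set_option autoImplicit false
set_option backward.isDefEq.respectTransparency false
set_option backward.isDefEq.respectTransparency.types false
open CategoryTheory CategoryTheory.Limits AlgebraicGeometry Opposite TopologicalSpace TensorProduct
universe u

namespace K99.PolMaps

open Groth.Agent Groth.Agent.Fdesc.LocGen Groth.Agent.Flat2H.FamExt K99.Av K388.DDGrpd _root_.Desc
  K99.PolCore

section Ps

variable {X Y Z : Scheme.{u}}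

/-- pull back a section along `f`, apply `θ` and restrict to `V` -/
noncomputable def ps {f : X ⟶ Y} {L : Y.Modules} {M : X.Modules}
    (θ : (Scheme.Modules.pullback f).obj L ⟶ M) {U : Y.Opens} (V : X.Opens) (h : V ≤ f ⁻¹ᵁ U)
    (m : Γ(L, U)) : Γ(M, V) :=
  res M h (θ.app (f ⁻¹ᵁ U) (pullSec f m))

variable {f : X ⟶ Y} {L : Y.Modules} {M : X.Modules} (θ : (Scheme.Modules.pullback f).obj L ⟶ M)

theorem ps_smul {U : Y.Opens} (V : X.Opens) (h : V ≤ f ⁻¹ᵁ U) (r : Γ(Y, U)) (m : Γ(L, U)) :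
    ps θ V h (r • m) = av f h r • ps θ V h m := by
  unfold ps
  rw [pullSec_smul, Scheme.Modules.Hom.app_smul, res_smul, app_eq_av, ores_av]

theorem ps_add {U : Y.Opens} (V : X.Opens) (h : V ≤ f ⁻¹ᵁ U) (m n : Γ(L, U)) :
    ps θ V h (m + n) = ps θ V h m + ps θ V h n := by
  unfold ps
  rw [pullSec_add]
  have h1 : (θ.app (f ⁻¹ᵁ U)) (pullSec f m + pullSec f n) =
    θ.app (f ⁻¹ᵁ U) (pullSec f m) + θ.app (f ⁻¹ᵁ U) (pullSec f n) := map_add (θ.app (f ⁻¹ᵁ U)).hom _ _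
  rw [h1, map_add]

theorem ps_res {U U' : Y.Opens} (V : X.Opens) (h : V ≤ f ⁻¹ᵁ U) (h' : U ≤ U') (m : Γ(L, U')) :
    ps θ V h (res L h' m) = ps θ V (h.trans (Scheme.Hom.preimage_mono f h')) m := by
  unfold ps
  rw [← res_pullSec, app_res, res_res]

theorem res_ps {U : Y.Opens} (V V' : X.Opens) (h : V ≤ f ⁻¹ᵁ U) (h' : V' ≤ V) (m : Γ(L, U)) :
    res M h' (ps θ V h m) = ps θ V' (h'.trans h) m := by
  unfold ps
  rw [res_res]

theorem isGen_ps [IsIso θ] {U : Y.Opens} (V : X.Opens) (h : V ≤ f ⁻¹ᵁ U) {e : Γ(L, U)} (he : IsGen e) :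
    IsGen (ps θ V h e) := ((he.pullSec f).app θ).res h

/-- composition -/
theorem ps_ps {g : Y ⟶ Z} {K : Z.Modules} (η : (Scheme.Modules.pullback g).obj K ⟶ L)
    {U : Z.Opens} {V : Y.Opens} (h : V ≤ g ⁻¹ᵁ U) (W : X.Opens) (h' : W ≤ f ⁻¹ᵁ V) (m : Γ(K, U)) :
    ps θ W h' (ps η V h m) =
      ps (f := f ≫ g) ((Scheme.Modules.pullbackComp f g).inv.app K ≫ (Scheme.Modules.pullback f).map η ≫ θ)
        W (h'.trans (Scheme.Hom.preimage_mono f h)) m := by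
  unfold ps
  have h1 : θ.app (f ⁻¹ᵁ V) (pullSec f (res L h (η.app (g ⁻¹ᵁ U) (pullSec g m)))) =
      res M (f.preimage_mono h) (θ.app (f ⁻¹ᵁ (g ⁻¹ᵁ U)) (pullSec f (η.app (g ⁻¹ᵁ U) (pullSec g m)))) := by
    rw [← res_pullSec, app_res]
  rw [h1, res_res]
  congr 1
  have h2 : ((Scheme.Modules.pullbackComp f g).inv.app K ≫ (Scheme.Modules.pullback f).map η ≫ θ).app
      (f ⁻¹ᵁ (g ⁻¹ᵁ U)) (pullSec (f ≫ g) m) = θ.app _ (((Scheme.Modules.pullback f).map η).app _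
        (((Scheme.Modules.pullbackComp f g).inv.app K).app _ (pullSec (f ≫ g) m))) := rfl
  refine Eq.trans ?_ h2.symm
  refine congrArg (θ.app (f ⁻¹ᵁ (g ⁻¹ᵁ U))) ?_
  have h3 := pullSec_comp f g (M := K) m
  have h4 := pullback_map_pullSec f η (pullSec g m)
  exact h4.symm.trans (congrArg (((Scheme.Modules.pullback f).map η).app (f ⁻¹ᵁ (g ⁻¹ᵁ U))) h3.symm)

theorem isUnit_of_isGen {M : X.Modules} {V : X.Opens} {e : Γ(M, V)} (he : IsGen e) {a : Γ(X, V)}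
    (hae : IsGen (a • e)) : IsUnit a := by
  obtain ⟨b, hb⟩ := hae.exists_eq e
  refine IsUnit.of_mul_eq_one b ?_
  refine he.ext ?_
  rw [one_smul]
  conv_rhs => rw [hb]
  rw [smul_smul, mul_comm]

end Ps

variable {S' S : Scheme.{u}} {p : S' ⟶ S} {D : SchDD p}

theorem exists_frames {L₀ : D.obj.left.Modules} {L₁ : (R D).Modules}
    {L₂ : (pullback (src D) (tgt D)).Modules}
    (s : (Scheme.Modules.pullback (src D)).obj L₀ ⟶ L₁) [IsIso s]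
    (t : (Scheme.Modules.pullback (tgt D)).obj L₀ ⟶ L₁) [IsIso t]
    (a : (Scheme.Modules.pullback (pullback.fst (src D) (tgt D))).obj L₁ ⟶ L₂) [IsIso a]
    (b : (Scheme.Modules.pullback (pullback.snd (src D) (tgt D))).obj L₁ ⟶ L₂)
    (c : (Scheme.Modules.pullback (cmp D)).obj L₁ ⟶ L₂)
    (hab : ∀ (U : D.obj.left.Opens) (m : Γ(L₀, U)) (V : (pullback (src D) (tgt D)).Opens)
      (h : V ≤ pullback.fst (src D) (tgt D) ⁻¹ᵁ src D ⁻¹ᵁ U)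
      (h' : V ≤ pullback.snd (src D) (tgt D) ⁻¹ᵁ tgt D ⁻¹ᵁ U),
      ps a V h (ps s (src D ⁻¹ᵁ U) le_rfl m) = ps b V h' (ps t (tgt D ⁻¹ᵁ U) le_rfl m))
    (hbc : ∀ (U : D.obj.left.Opens) (m : Γ(L₀, U)) (V : (pullback (src D) (tgt D)).Opens)
      (h : V ≤ pullback.snd (src D) (tgt D) ⁻¹ᵁ src D ⁻¹ᵁ U) (h' : V ≤ cmp D ⁻¹ᵁ src D ⁻¹ᵁ U),
      ps b V h (ps s (src D ⁻¹ᵁ U) le_rfl m) = ps c V h' (ps s (src D ⁻¹ᵁ U) le_rfl m))
    (hac : ∀ (U : D.obj.left.Opens) (m : Γ(L₀, U)) (V : (pullback (src D) (tgt D)).Opens)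
      (h : V ≤ pullback.fst (src D) (tgt D) ⁻¹ᵁ tgt D ⁻¹ᵁ U) (h' : V ≤ cmp D ⁻¹ᵁ tgt D ⁻¹ᵁ U),
      ps a V h (ps t (tgt D ⁻¹ᵁ U) le_rfl m) = ps c V h' (ps t (tgt D ⁻¹ᵁ U) le_rfl m))
    {ι : Type*} (W : ι → D.obj.left.Opens) (g : ∀ i j, Γ(D.obj.left, W i ⊓ W j))
    (hg : Groth.Agent.Flat2H.FamDict.Trivs L₀ W g) :
    ∃ δ : ∀ i j, Γ(R D, src D ⁻¹ᵁ W i ⊓ tgt D ⁻¹ᵁ W j), Frames D W g δ := by
  obtain ⟨hcov, e, he, hge⟩ := hg
  have hge' : ∀ {Y : Scheme.{u}} {f : Y ⟶ D.obj.left} {M : Y.Modules}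
      (θ : (Scheme.Modules.pullback f).obj L₀ ⟶ M) (i j : ι) (V : Y.Opens) (hi : V ≤ f ⁻¹ᵁ W i)
      (hj : V ≤ f ⁻¹ᵁ W j), ps θ V hi (e i) =
        av f (U := W i ⊓ W j) (le_inf hi hj) (g i j) • ps θ V hj (e j) := by
    intro Y f M θ i j V hi hj
    have h1 := congrArg (ps θ (U := W i ⊓ W j) V (le_inf hi hj)) (hge i j)
    rw [ps_smul, ps_res, ps_res] at h1
    exact h1
  have key : ∀ i j, ∃ d : Γ(R D, src D ⁻¹ᵁ W i ⊓ tgt D ⁻¹ᵁ W j),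
      ps s (src D ⁻¹ᵁ W i ⊓ tgt D ⁻¹ᵁ W j) inf_le_left (e i) =
        d • ps t (src D ⁻¹ᵁ W i ⊓ tgt D ⁻¹ᵁ W j) inf_le_right (e j) :=
    fun i j => (isGen_ps t _ _ (he j)).exists_eq _
  choose δ hδ using key
  have hδ' : ∀ (i j : ι) (V : (R D).Opens) (hi : V ≤ src D ⁻¹ᵁ W i) (hj : V ≤ tgt D ⁻¹ᵁ W j),
      ps s V hi (e i) = ores (le_inf hi hj) (δ i j) • ps t V hj (e j) := by
    intro i j V hi hj
    have h1 := congrArg (res L₁ (le_inf hi hj)) (hδ i j)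
    rw [res_smul, res_ps, res_ps] at h1
    exact h1
  refine ⟨δ, hcov, fun i j => ?_, ?_, ?_, ?_⟩
  · refine isUnit_of_isGen (isGen_ps t _ inf_le_right (he j)) ?_
    rw [← hδ]
    exact isGen_ps s _ inf_le_left (he i)
  · intro i i' j T hi hi' hj
    refine (isGen_ps t T hj (he j)).ext ?_
    rw [mul_smul, ← hδ' i' j T hi' hj, ← hge' s i i' T hi hi', hδ' i j T hi hj]
  · intro i j j' T hi hj hj'
    refine (isGen_ps t T hj' (he j')).ext ?_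
    rw [mul_smul, ← hge' t j j' T hj hj', ← hδ' i j T hi hj, hδ' i j' T hi hj']
  · intro i j k T hi hj hk
    let α := pullback.fst (src D) (tgt D)
    let β := pullback.snd (src D) (tgt D)
    replace hi : T ≤ β ⁻¹ᵁ src D ⁻¹ᵁ W i := hi
    replace hj : T ≤ β ⁻¹ᵁ tgt D ⁻¹ᵁ W j := hj
    replace hk : T ≤ α ⁻¹ᵁ tgt D ⁻¹ᵁ W k := hk
    have hj2 : T ≤ α ⁻¹ᵁ src D ⁻¹ᵁ W j := le_of_eq_hom (fst_src D).symm hj
    have hci : T ≤ cmp D ⁻¹ᵁ src D ⁻¹ᵁ W i := le_of_eq_hom (cmp_src D).symm hi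
    have hck : T ≤ cmp D ⁻¹ᵁ tgt D ⁻¹ᵁ W k := le_of_eq_hom (cmp_tgt D).symm hk
    -- the three relations
    have r1 : ps b T hi (ps s (src D ⁻¹ᵁ W i) le_rfl (e i)) =
        av β (U := src D ⁻¹ᵁ W i ⊓ tgt D ⁻¹ᵁ W j) (le_inf hi hj) (δ i j) •
          ps b T hj (ps t (tgt D ⁻¹ᵁ W j) le_rfl (e j)) := by
      have h1 := congrArg (ps b (U := src D ⁻¹ᵁ W i ⊓ tgt D ⁻¹ᵁ W j) T (le_inf hi hj)) (hδ i j)
      rw [ps_smul, ← res_ps s (src D ⁻¹ᵁ W i) _ le_rfl inf_le_left,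
        ← res_ps t (tgt D ⁻¹ᵁ W j) _ le_rfl inf_le_right, ps_res, ps_res] at h1
      exact h1
    have r2 : ps a T hj2 (ps s (src D ⁻¹ᵁ W j) le_rfl (e j)) =
        av α (U := src D ⁻¹ᵁ W j ⊓ tgt D ⁻¹ᵁ W k) (le_inf hj2 hk) (δ j k) •
          ps a T hk (ps t (tgt D ⁻¹ᵁ W k) le_rfl (e k)) := by
      have h1 := congrArg (ps a (U := src D ⁻¹ᵁ W j ⊓ tgt D ⁻¹ᵁ W k) T (le_inf hj2 hk)) (hδ j k)
      rw [ps_smul, ← res_ps s (src D ⁻¹ᵁ W j) _ le_rfl inf_le_left,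
        ← res_ps t (tgt D ⁻¹ᵁ W k) _ le_rfl inf_le_right, ps_res, ps_res] at h1
      exact h1
    have r3 : ps c T hci (ps s (src D ⁻¹ᵁ W i) le_rfl (e i)) =
        av (cmp D) (U := src D ⁻¹ᵁ W i ⊓ tgt D ⁻¹ᵁ W k) (le_inf hci hck) (δ i k) •
          ps c T hck (ps t (tgt D ⁻¹ᵁ W k) le_rfl (e k)) := by
      have h1 := congrArg (ps c (U := src D ⁻¹ᵁ W i ⊓ tgt D ⁻¹ᵁ W k) T (le_inf hci hck)) (hδ i k)
      rw [ps_smul, ← res_ps s (src D ⁻¹ᵁ W i) _ le_rfl inf_le_left,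
        ← res_ps t (tgt D ⁻¹ᵁ W k) _ le_rfl inf_le_right, ps_res, ps_res] at h1
      exact h1
    refine (isGen_ps a T hk (isGen_ps t (tgt D ⁻¹ᵁ W k) le_rfl (he k))).ext ?_
    rw [mul_smul, ← r2, hab _ (e j) T hj2 hj, ← r1, hbc _ (e i) T hi hci, r3, hac _ (e k) T hk hck]

end K99.PolMaps
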